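import Groth.Agent.FunFld.K664.Embed
import Groth.Agent.FunFld.K665.ConormMap
import Groth.Agent.FunFld.K662.Conorm

/-! The degree of `τ(φ)` for an endomorphism `τ` (helper664). -/

set_option autoImplicit false

open WithZero

namespace K664

open FunFld K660.Places

section equiv

variable {k K F : Type*} [Field k] [Field K] [Field F] [Algebra k K] [Algebra k F]

/-- Pull-back of places along an isomorphism. -/
def placeComap (e : K ≃ₐ[k] F) (P : Place k F) : Place k K :=
  ⟨P.1.comap (e : K →+* F), fun c => by
    rw [Valuation.comap_apply]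
    have : (e : K →+* F) (algebraMap k K c) = algebraMap k F c := e.commutes c
    rw [this]; exact P.2.1 c,
  fun y => by
    obtain ⟨x, hx⟩ := P.2.2 y
    refine ⟨e.symm x, ?_⟩
    rw [Valuation.comap_apply]
    have : (e : K →+* F) (e.symm x) = x := e.apply_symm_apply x
    rw [this, hx]⟩

theorem placeComap_val (e : K ≃ₐ[k] F) (P : Place k F) (x : K) :
    (placeComap e P).1 x = P.1 (e x) := rfl

/-- Places correspond under an isomorphism. -/
def placeEquivOf (e : K ≃ₐ[k] F) : Place k F ≃ Place k K where
  toFun := placeComap e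
  invFun := placeComap e.symm
  left_inv P := by
    apply Subtype.ext; ext x
    change P.1 (e (e.symm x)) = P.1 x
    rw [e.apply_symm_apply]
  right_inv P := by
    apply Subtype.ext; ext x
    change P.1 (e.symm (e x)) = P.1 x
    rw [e.symm_apply_apply]

theorem placeEquivOf_ord (e : K ≃ₐ[k] F) (P : Place k F) (x : K) :
    (placeEquivOf e P).ord x = P.ord (e x) := rfl

variable [IsAlgClosed k]

theorem deg_eq_sum (hK : IsFunctionField k K) (D : Divisor k K) : D.deg = D.sum fun _ n => n := by
  unfold Divisor.deg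
  refine Finsupp.sum_congr fun P _ => ?_
  rw [deg_place hK]; simp

theorem deg_mapDiv_equiv (hK : IsFunctionField k K) (hF : IsFunctionField k F) (e : K ≃ₐ[k] F)
    {ι : Type*} [Fintype ι] [Nonempty ι] (φ : ι → K) :
    (mapDiv k (fun i => e (φ i))).deg = (mapDiv k φ).deg := by
  rw [deg_eq_sum hK, deg_eq_sum hF]
  have h : mapDiv k φ = Finsupp.equivMapDomain (placeEquivOf e) (mapDiv k (fun i => e (φ i))) := by
    ext P
    rw [Finsupp.equivMapDomain_apply, mapDiv_apply hK, mapDiv_apply hF]
    congr 1
    apply Finset.inf'_congr _ rfl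
    intro i _
    rw [← placeEquivOf_ord, Equiv.apply_symm_apply]
  rw [h, Finsupp.sum_equivMapDomain]

end equiv

section tau

variable {k K : Type*} [Field k] [Field K] [Algebra k K]

theorem transcendental_map {τ : K →ₐ[k] K} {t : K} (ht : Transcendental k t) :
    Transcendental k (τ t) := by
  intro h
  exact ht ((isAlgebraic_algHom_iff τ τ.toRingHom.injective).mp h)

theorem finite_fieldRange (hK : IsFunctionField k K) (τ : K →ₐ[k] K) :
    FiniteDimensional τ.fieldRange K := by
  obtain ⟨t, ht⟩ := exists_isGen hK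
  exact finite_over_intermediate (isGen_of_transcendental hK (transcendental_map ht.tr))
    τ.fieldRange ⟨t, rfl⟩

theorem isFunctionField_intermediate (hK : IsFunctionField k K) (F : IntermediateField k K) {t : K}
    (ht : Transcendental k t) (htF : t ∈ F) : IsFunctionField k F := by
  have h := isGen_intermediate (isGen_of_transcendental hK ht) F htF
  refine ⟨⟨_, h.tr, h.fin⟩, fun y hy => ?_⟩
  obtain ⟨c, hc⟩ := hK.2 (y : K) (hy.algebraMap (A := K))
  exact ⟨c, Subtype.ext hc⟩

theorem deg_mapDiv_comp [IsAlgClosed k] (hK : IsFunctionField k K) (τ : K →ₐ[k] K) {n : ℕ}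
    (φ : Fin (n + 1) → K) :
    (mapDiv k (τ ∘ φ)).deg = Module.finrank τ.fieldRange K * (mapDiv k φ).deg := by
  obtain ⟨t, ht⟩ := exists_isGen hK
  have hF : IsFunctionField k τ.fieldRange :=
    isFunctionField_intermediate hK τ.fieldRange (transcendental_map (τ := τ) ht.tr) ⟨t, rfl⟩
  have := finite_fieldRange hK τ
  let e : K ≃ₐ[k] τ.fieldRange := AlgEquiv.ofInjectiveField τ
  have h1 : mapDiv k (τ ∘ φ) = conorm K (mapDiv k (fun i => e (φ i))) := by
    rw [← K665.ConormMap.main hF hK (fun i => e (φ i))]
    rfl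
  rw [h1, K662.Conorm.deg_conorm (exists_isGen hF), deg_mapDiv_equiv hK hF e φ]

end tau

end K664
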