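import Groth.Agent.FunFld.K664.Basic

/-! Weak approximation for finitely many places of `FunFld` (helper664). No hypothesis on `K/k`. -/

set_option autoImplicit false

open WithZero

namespace K664

open FunFld

variable {k K : Type*} [Field k] [Field K] [Algebra k K]

/-- For `P ≠ Q` there is `u` with `P u < 1` and `1 < Q u`. -/
theorem exists_lt_one_one_lt {P Q : Place k K} (h : P ≠ Q) :
    ∃ u : K, P.1 u < 1 ∧ 1 < Q.1 u := by
  obtain ⟨x, hx1, hx2⟩ := exists_val_le_one_and_one_lt h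
  obtain ⟨y, hy1, hy2⟩ := exists_val_le_one_and_one_lt h.symm
  -- `P x ≤ 1 < Q x`, `Q y ≤ 1 < P y`; take `x / y`
  have hy0 : y ≠ 0 := by rintro rfl; simp at hy2
  have hx0 : x ≠ 0 := by rintro rfl; simp at hx2
  refine ⟨x / y, ?_, ?_⟩
  · have hne : x / y ≠ 0 := div_ne_zero hx0 hy0
    rw [val_lt_one_iff P hne, ord_div P hx0 hy0]
    rw [val_le_one_iff P hx0] at hx1
    rw [one_lt_val_iff P hy0] at hy2
    omega
  · have hne : x / y ≠ 0 := div_ne_zero hx0 hy0
    rw [one_lt_val_iff Q hne, ord_div Q hx0 hy0]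
    rw [one_lt_val_iff Q hx0] at hx2
    rw [val_le_one_iff Q hy0] at hy1
    omega

/-- For a finite set `S` of places and `P ∉ S` there is `u` with `P u < 1` and `1 < Q u` for all
`Q ∈ S`. -/
theorem exists_lt_one_forall_one_lt (S : Finset (Place k K)) (P : Place k K) (hP : P ∉ S) :
    ∃ u : K, P.1 u < 1 ∧ ∀ Q ∈ S, 1 < Q.1 u := by
  classical
  induction S using Finset.induction_on with
  | empty =>
    exact ⟨0, by simp, by simp⟩
  | insert R S hR ih =>
    rw [Finset.mem_insert, not_or] at hP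
    obtain ⟨y, hy1, hy2⟩ := ih hP.2
    by_cases hRy : 1 < R.1 y
    · refine ⟨y, hy1, fun Q hQ => ?_⟩
      rcases Finset.mem_insert.mp hQ with rfl | hQ
      · exact hRy
      · exact hy2 Q hQ
    · rw [not_lt] at hRy
      obtain ⟨z, hz1, hz2⟩ := exists_lt_one_one_lt hP.1
      have hz0 : z ≠ 0 := by rintro rfl; simp at hz2
      -- choose `r` large with `Q (z^r) ≠ Q y` for all `Q ∈ S`
      obtain ⟨r, hr, hr0⟩ : ∃ r : ℕ, (∀ Q ∈ S, (Q.1 z) ^ r ≠ Q.1 y) ∧ 1 ≤ r := by
        obtain ⟨N, hN⟩ : ∃ N : ℕ, ∀ Q ∈ S, (Q.ord y).natAbs ≤ N :=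
          ⟨∑ Q ∈ S, (Q.ord y).natAbs, fun Q hQ =>
            Finset.single_le_sum (f := fun Q : Place k K => (Q.ord y).natAbs)
              (fun _ _ => Nat.zero_le _) hQ⟩
        refine ⟨1 + N, fun Q hQ h => ?_, by omega⟩
        have hy0 : y ≠ 0 := by
          rintro rfl; have := hy2 Q hQ; simp at this
        have h1 : Q.ord (z ^ (1 + N)) = Q.ord y := by
          unfold Place.ord; rw [map_pow, h]
        rw [ord_pow] at h1
        have h2 := hN Q hQ
        have h3 : Q.ord y < 0 := (one_lt_val_iff Q hy0).mp (hy2 Q hQ)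
        have h4 : Q.ord z ≠ 0 := by
          intro h0; rw [h0, mul_zero] at h1; omega
        have h5 : (Q.ord y).natAbs = (1 + N) * (Q.ord z).natAbs := by
          rw [← h1, Int.natAbs_mul, Int.natAbs_natCast]
        have h6 : 1 ≤ (Q.ord z).natAbs := by omega
        nlinarith
      refine ⟨y + z ^ r, ?_, fun Q hQ => ?_⟩
      · refine lt_of_le_of_lt (P.1.map_add _ _) (max_lt hy1 ?_)
        rw [map_pow]
        exact pow_lt_one₀ zero_le hz1 (by omega)
      · rcases Finset.mem_insert.mp hQ with rfl | hQ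
        · have h7 : 1 < Q.1 (z ^ r) := by
            rw [map_pow]; exact one_lt_pow₀ hz2 (by omega)
          rw [val_add_eq_of_lt Q (lt_of_le_of_lt hRy h7)]
          exact h7
        · have h8 : Q.1 (z ^ r) ≠ Q.1 y := by rw [map_pow]; exact hr Q hQ
          rw [Valuation.map_add_of_distinct_val _ h8.symm]
          exact lt_max_of_lt_left (hy2 Q hQ)

/-- For a finite set `S` of places, `P ∈ S` and `n : ℕ`, there is `w` with `P (w - 1) ≤ exp (-n)`
and `Q w ≤ exp (-n)` for all `Q ∈ S`, `Q ≠ P`. -/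
theorem exists_near_one_forall_small (S : Finset (Place k K)) (P : Place k K) (n : ℕ) :
    ∃ w : K, P.1 (w - 1) ≤ exp (-(n : ℤ)) ∧ ∀ Q ∈ S, Q ≠ P → Q.1 w ≤ exp (-(n : ℤ)) := by
  classical
  obtain ⟨u, hu1, hu2⟩ := exists_lt_one_forall_one_lt (S.erase P) P (by simp)
  -- `w = 1 / (1 + u ^ (n+1))`
  have hPu : P.1 (u ^ (n + 1)) ≤ exp (-(n : ℤ)) := by
    by_cases hu0 : u = 0
    · simp [hu0]
    · rw [val_le_exp_iff P (pow_ne_zero _ hu0), ord_pow, neg_neg]
      have := (val_lt_one_iff P hu0).mp hu1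
      push_cast
      nlinarith
  have hPu' : P.1 (u ^ (n + 1)) < 1 := by
    rw [map_pow]; exact pow_lt_one₀ zero_le hu1 (by omega)
  have hP1 : P.1 (1 + u ^ (n + 1)) = 1 := by
    have := val_add_eq_of_gt P (x := 1) (y := u ^ (n + 1)) (by simpa using hPu')
    simpa using this
  have hne : (1 + u ^ (n + 1)) ≠ 0 := by
    intro h; rw [h] at hP1; simp at hP1
  refine ⟨(1 + u ^ (n + 1))⁻¹, ?_, fun Q hQ hQP => ?_⟩
  · have : (1 + u ^ (n + 1))⁻¹ - 1 = - (u ^ (n + 1) * (1 + u ^ (n + 1))⁻¹) := by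
      field_simp; ring
    rw [this, Valuation.map_neg, map_mul, map_inv₀, hP1, inv_one, mul_one]
    exact hPu
  · have hQu := hu2 Q (Finset.mem_erase.mpr ⟨hQP, hQ⟩)
    have hu0 : u ≠ 0 := by rintro rfl; simp at hQu
    have hQu1 : 1 < Q.1 (u ^ (n + 1)) := by
      rw [map_pow]; exact one_lt_pow₀ hQu (by omega)
    have hQ1 : Q.1 (1 + u ^ (n + 1)) = Q.1 (u ^ (n + 1)) := by
      apply val_add_eq_of_lt Q; simpa using hQu1
    rw [map_inv₀, hQ1, ← map_inv₀, val_le_exp_iff Q (inv_ne_zero (pow_ne_zero _ hu0)), ord_inv,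
      ord_pow, neg_neg]
    have := (one_lt_val_iff Q hu0).mp hQu
    push_cast
    nlinarith

/-- **Weak approximation**, inequality form. -/
theorem weak_approx_le (S : Finset (Place k K)) (x : Place k K → K) (m : Place k K → ℤ) :
    ∃ y : K, ∀ P ∈ S, P.1 (y - x P) ≤ exp (-(m P)) := by
  classical
  -- a uniform bound
  obtain ⟨N, hN⟩ : ∃ N : ℕ, ∀ P ∈ S, ∀ Q ∈ S, m P - P.ord (x Q) ≤ N := by
    refine ⟨∑ P ∈ S, ∑ Q ∈ S, (m P - P.ord (x Q)).natAbs, fun P hP Q hQ => ?_⟩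
    have h1 : (m P - P.ord (x Q)).natAbs ≤ ∑ Q ∈ S, (m P - P.ord (x Q)).natAbs :=
      Finset.single_le_sum (f := fun Q => (m P - P.ord (x Q)).natAbs) (fun _ _ => Nat.zero_le _) hQ
    have h2 : ∑ Q ∈ S, (m P - P.ord (x Q)).natAbs ≤ ∑ P ∈ S, ∑ Q ∈ S, (m P - P.ord (x Q)).natAbs :=
      Finset.single_le_sum (f := fun P => ∑ Q ∈ S, (m P - P.ord (x Q)).natAbs)
        (fun _ _ => Nat.zero_le _) hP
    omega
  choose w hw1 hw2 using fun P : Place k K => exists_near_one_forall_small S P N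
  refine ⟨∑ Q ∈ S, w Q * x Q, fun P hP => ?_⟩
  have key : ∑ Q ∈ S, w Q * x Q - x P = ∑ Q ∈ S, (w Q - if Q = P then 1 else 0) * x Q := by
    simp only [sub_mul, Finset.sum_sub_distrib, ite_mul, one_mul, zero_mul]
    rw [Finset.sum_ite_eq' S P]; simp [hP]
  rw [key]
  refine val_sum_le P S _ fun Q hQ => ?_
  rw [map_mul]
  have hb : P.1 (w Q - if Q = P then 1 else 0) ≤ exp (-(N : ℤ)) := by
    split_ifs with h
    · subst h; exact hw1 Q
    · rw [sub_zero]; exact hw2 Q P hP (fun h' => h h'.symm)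
  by_cases hx : x Q = 0
  · simp [hx]
  · calc P.1 (w Q - if Q = P then 1 else 0) * P.1 (x Q)
        ≤ exp (-(N : ℤ)) * P.1 (x Q) := mul_le_mul' hb le_rfl
      _ = exp (-(N : ℤ) - P.ord (x Q)) := by
          rw [val_eq_exp P hx, ← exp_add]; rfl
      _ ≤ exp (-(m P)) := by
          rw [exp_le_exp]; have := hN P hP Q hQ; omega

/-- **Weak approximation**, exact form: `ord_P (y - x_P) = m_P` for all `P ∈ S`. -/
theorem weak_approx_eq (S : Finset (Place k K)) (x : Place k K → K) (m : Place k K → ℤ) :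
    ∃ y : K, ∀ P ∈ S, P.1 (y - x P) = exp (-(m P)) := by
  choose t ht using fun P : Place k K => exists_val_eq P (-(m P))
  obtain ⟨y, hy⟩ := weak_approx_le S (fun P => x P + t P) (fun P => m P + 1)
  refine ⟨y, fun P hP => ?_⟩
  have h1 := hy P hP
  have h2 : y - x P = (y - (x P + t P)) + t P := by ring
  rw [h2, val_add_eq_of_lt, ht]
  refine lt_of_le_of_lt h1 ?_
  rw [ht, exp_lt_exp]; omega

end K664
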