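import Groth.Prelude.Def_W4bk4goldsch23FF
import Mathlib.Tactic

/-! Basic API for the places of `FunFld` (helper664): orders, comparison of places, uniformizers. -/

set_option autoImplicit false

open WithZero

namespace K664

open FunFld

variable {k K : Type*} [Field k] [Field K] [Algebra k K]

section basic

variable (P Q : Place k K)

theorem val_algebraMap {c : k} (hc : c ≠ 0) : P.1 (algebraMap k K c) = 1 := by
  refine le_antisymm (P.2.1 c) ?_
  have h := P.2.1 c⁻¹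
  have h0 : P.1 (algebraMap k K c) ≠ 0 := by simp [hc]
  rw [map_inv₀, map_inv₀] at h
  exact (inv_le_one₀ (zero_lt_iff.mpr h0)).mp h

theorem val_ne_zero {x : K} (hx : x ≠ 0) : P.1 x ≠ 0 := by simp [hx]

theorem val_eq_exp {x : K} (hx : x ≠ 0) : P.1 x = exp (-(P.ord x)) := by
  simp only [Place.ord, neg_neg]
  rw [exp_log (val_ne_zero P hx)]

@[simp] theorem ord_zero : P.ord 0 = 0 := by simp [Place.ord]

@[simp] theorem ord_one : P.ord 1 = 0 := by simp [Place.ord]

theorem ord_algebraMap (c : k) : P.ord (algebraMap k K c) = 0 := by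
  by_cases hc : c = 0
  · simp [hc]
  · simp [Place.ord, val_algebraMap P hc]

theorem ord_mul {x y : K} (hx : x ≠ 0) (hy : y ≠ 0) : P.ord (x * y) = P.ord x + P.ord y := by
  simp only [Place.ord, map_mul]
  rw [log_mul (val_ne_zero P hx) (val_ne_zero P hy)]; ring

@[simp] theorem ord_inv (x : K) : P.ord x⁻¹ = - P.ord x := by
  simp only [Place.ord, map_inv₀, log_inv]

theorem ord_div {x y : K} (hx : x ≠ 0) (hy : y ≠ 0) : P.ord (x / y) = P.ord x - P.ord y := by
  rw [div_eq_mul_inv, ord_mul P hx (inv_ne_zero hy), ord_inv]; ring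

@[simp] theorem ord_pow (x : K) (n : ℕ) : P.ord (x ^ n) = n * P.ord x := by
  simp only [Place.ord, map_pow, log_pow, nsmul_eq_mul]; ring

@[simp] theorem ord_zpow (x : K) (n : ℤ) : P.ord (x ^ n) = n * P.ord x := by
  simp only [Place.ord, map_zpow₀, log_zpow, smul_eq_mul]; ring

@[simp] theorem ord_neg (x : K) : P.ord (-x) = P.ord x := by
  simp only [Place.ord, Valuation.map_neg]

theorem ord_smul {c : k} (hc : c ≠ 0) (x : K) : P.ord (c • x) = P.ord x := by
  simp only [Place.ord, Algebra.smul_def, map_mul, val_algebraMap P hc, one_mul]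

theorem val_smul {c : k} (hc : c ≠ 0) (x : K) : P.1 (c • x) = P.1 x := by
  simp only [Algebra.smul_def, map_mul, val_algebraMap P hc, one_mul]

theorem val_smul_le (c : k) (x : K) : P.1 (c • x) ≤ P.1 x := by
  by_cases hc : c = 0
  · simp [hc]
  · exact (val_smul P hc x).le

theorem val_le_exp_iff {x : K} (hx : x ≠ 0) {n : ℤ} : P.1 x ≤ exp n ↔ -n ≤ P.ord x := by
  rw [val_eq_exp P hx, exp_le_exp]; omega

theorem val_lt_exp_iff {x : K} (hx : x ≠ 0) {n : ℤ} : P.1 x < exp n ↔ -n < P.ord x := by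
  rw [val_eq_exp P hx, exp_lt_exp]; omega

theorem exp_le_val_iff {x : K} (hx : x ≠ 0) {n : ℤ} : exp n ≤ P.1 x ↔ P.ord x ≤ -n := by
  rw [val_eq_exp P hx, exp_le_exp]; omega

theorem exp_lt_val_iff {x : K} (hx : x ≠ 0) {n : ℤ} : exp n < P.1 x ↔ P.ord x < -n := by
  rw [val_eq_exp P hx, exp_lt_exp]; omega

theorem val_eq_exp_iff {x : K} {n : ℤ} : P.1 x = exp n ↔ x ≠ 0 ∧ P.ord x = -n := by
  constructor
  · intro h
    have hx : x ≠ 0 := by
      rintro rfl
      rw [map_zero] at h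
      exact exp_ne_zero h.symm
    refine ⟨hx, ?_⟩
    rw [val_eq_exp P hx, exp_inj] at h; omega
  · rintro ⟨hx, h⟩
    rw [val_eq_exp P hx, h, neg_neg]

theorem val_le_one_iff {x : K} (hx : x ≠ 0) : P.1 x ≤ 1 ↔ 0 ≤ P.ord x := by
  have := val_le_exp_iff P hx (n := 0); simpa using this

theorem val_lt_one_iff {x : K} (hx : x ≠ 0) : P.1 x < 1 ↔ 0 < P.ord x := by
  have := val_lt_exp_iff P hx (n := 0); simpa using this

theorem one_lt_val_iff {x : K} (hx : x ≠ 0) : 1 < P.1 x ↔ P.ord x < 0 := by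
  have := exp_lt_val_iff P hx (n := 0); simpa using this

/-- A nonzero order forces `x ≠ 0`. -/
theorem ne_zero_of_ord_ne_zero {x : K} (h : P.ord x ≠ 0) : x ≠ 0 := by
  rintro rfl; simp at h

theorem one_lt_val_iff_ord_neg {x : K} : 1 < P.1 x ↔ P.ord x < 0 := by
  by_cases hx : x = 0
  · simp [hx]
  · exact one_lt_val_iff P hx

theorem val_le_one_iff_ord_nonneg {x : K} : P.1 x ≤ 1 ↔ 0 ≤ P.ord x := by
  by_cases hx : x = 0
  · simp [hx]
  · exact val_le_one_iff P hx

theorem exists_val_eq (n : ℤ) : ∃ t : K, P.1 t = exp n := P.2.2 _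

theorem exists_uniformizer : ∃ t : K, P.1 t = exp (-1) := P.2.2 _

theorem exists_ord_eq (n : ℤ) : ∃ t : K, t ≠ 0 ∧ P.ord t = n := by
  obtain ⟨t, ht⟩ := exists_val_eq P (-n)
  rw [val_eq_exp_iff] at ht
  exact ⟨t, ht.1, by rw [ht.2, neg_neg]⟩

/-- If `O_P ⊆ O_Q` then `P = Q`. -/
theorem eq_of_val_le_one_imp (h : ∀ x : K, P.1 x ≤ 1 → Q.1 x ≤ 1) : P = Q := by
  have hunit : ∀ x : K, P.1 x = 1 → Q.1 x = 1 := by
    intro x hx
    have hx0 : x ≠ 0 := by rintro rfl; simp at hx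
    refine le_antisymm (h x hx.le) ?_
    have h2 := h x⁻¹ (by rw [map_inv₀, hx, inv_one])
    rw [map_inv₀] at h2
    exact (inv_le_one₀ (zero_lt_iff.mpr (val_ne_zero Q hx0))).mp h2
  obtain ⟨t, ht⟩ := exists_uniformizer P
  have ht0 : t ≠ 0 := ((val_eq_exp_iff P).mp ht).1
  have hord : P.ord t = 1 := by rw [(val_eq_exp_iff P).mp ht |>.2]; norm_num
  have hQ : ∀ x : K, x ≠ 0 → Q.1 x = Q.1 t ^ (P.ord x) := by
    intro x hx
    have h1 : Q.1 (x * t ^ (-(P.ord x))) = 1 := by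
      apply hunit
      rw [map_mul, map_zpow₀, ht, val_eq_exp P hx, ← exp_zsmul, ← exp_add]
      simp
    rw [map_mul, map_zpow₀, zpow_neg] at h1
    exact (mul_inv_eq_one₀ (zpow_ne_zero _ (val_ne_zero Q ht0))).mp h1
  have htQ : Q.1 t ≤ 1 := h t (by rw [ht, ← exp_zero, exp_le_exp]; norm_num)
  obtain ⟨s, hs⟩ := exists_uniformizer Q
  have hs0 : s ≠ 0 := ((val_eq_exp_iff Q).mp hs).1
  have hst := hQ s hs0
  have hQt : Q.ord t = 1 := by
    have h3 : Q.ord s = P.ord s * Q.ord t := by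
      have : Q.1 s = Q.1 (t ^ (P.ord s)) := by rw [map_zpow₀]; exact hst
      have h4 : Q.ord s = Q.ord (t ^ (P.ord s)) := by simp only [Place.ord, this]
      rw [h4, ord_zpow]
    have h5 : Q.ord s = 1 := by rw [(val_eq_exp_iff Q).mp hs |>.2]; norm_num
    have h6 : 0 ≤ Q.ord t := (val_le_one_iff Q ht0).mp htQ
    rw [h5] at h3
    exact Int.eq_one_of_mul_eq_one_left h6 h3.symm
  apply Subtype.ext
  ext x
  by_cases hx : x = 0
  · simp [hx]
  · rw [hQ x hx, val_eq_exp P hx, val_eq_exp Q ht0, hQt, ← exp_zsmul]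
    simp

theorem exists_val_le_one_and_one_lt {P Q : Place k K} (h : P ≠ Q) :
    ∃ x : K, P.1 x ≤ 1 ∧ 1 < Q.1 x := by
  by_contra hcon
  push Not at hcon
  exact h (eq_of_val_le_one_imp P Q hcon)

theorem place_ext_ord {P Q : Place k K} (h : ∀ x : K, P.ord x = Q.ord x) : P = Q := by
  apply eq_of_val_le_one_imp
  intro x hx
  rw [val_le_one_iff_ord_nonneg] at hx ⊢
  rwa [← h x]

theorem val_add_eq_of_lt {x y : K} (h : P.1 x < P.1 y) : P.1 (x + y) = P.1 y :=
  Valuation.map_add_eq_of_lt_right _ h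

theorem val_add_eq_of_gt {x y : K} (h : P.1 y < P.1 x) : P.1 (x + y) = P.1 x :=
  Valuation.map_add_eq_of_lt_left _ h

theorem val_sub_eq_of_lt {x y : K} (h : P.1 x < P.1 y) : P.1 (x - y) = P.1 y :=
  Valuation.map_sub_eq_of_lt_right _ h

theorem val_sub_eq_of_gt {x y : K} (h : P.1 y < P.1 x) : P.1 (x - y) = P.1 x :=
  Valuation.map_sub_eq_of_lt_left _ h

theorem val_sum_le {ι : Type*} (s : Finset ι) (f : ι → K) {g : WithZero (Multiplicative ℤ)}
    (h : ∀ i ∈ s, P.1 (f i) ≤ g) : P.1 (∑ i ∈ s, f i) ≤ g :=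
  Valuation.map_sum_le _ h

end basic

end K664
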