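import Groth.Agent.FunFld.K664.Cond

/-! Applications of the conductor theorem: finiteness of singular places; the local criterion
(separation of points and tangents); the global criterion `W^n = L(nD)` (helper664). -/

set_option autoImplicit false

open WithZero

namespace K664

open FunFld

variable {k K : Type*} [Field k] [Field K] [Algebra k K]

section exact

theorem sub_single_apply_self (E : Divisor k K) (P : Place k K) (n : ℤ) :
    ((E - Finsupp.single P n : Divisor k K) : Place k K → ℤ) P = E P - n := by simp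

theorem sub_single_apply_ne (E : Divisor k K) {P Q : Place k K} (h : Q ≠ P) (n : ℤ) :
    ((E - Finsupp.single P n : Divisor k K) : Place k K → ℤ) Q = E Q := by
  classical
  simp [Finsupp.single_apply, Ne.symm h]

/-- Membership in `L(E - P)` for an element of `L(E)`. -/
theorem mem_L_sub_single {E : Divisor k K} {P : Place k K} {w : K} (hw : w ∈ L E)
    (hlt : P.1 w < exp (E P)) : w ∈ L (E - Finsupp.single P 1) := by
  intro Q
  by_cases hQ : Q = P
  · subst hQ
    rw [sub_single_apply_self]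
    by_cases h0 : w = 0
    · rw [h0, map_zero]; exact zero_le
    · rw [val_lt_exp_iff Q h0] at hlt
      rw [val_le_exp_iff Q h0]; omega
  · rw [sub_single_apply_ne E hQ]; exact hw Q

theorem lt_of_mem_L_sub_single {E : Divisor k K} {P : Place k K} {w : K}
    (hw : w ∈ L (E - Finsupp.single P 1)) : P.1 w < exp (E P) := by
  have := hw P
  rw [sub_single_apply_self] at this
  refine lt_of_le_of_lt this ?_
  rw [exp_lt_exp]; omega

variable [IsAlgClosed k]

/-- For divisors of large degree, some element of `L(E)` has exact order `-E(P)` at `P`. -/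
theorem exists_bound_exact (hK : IsFunctionField k K) :
    ∃ N : ℤ, 0 ≤ N ∧ ∀ E : Divisor k K, N ≤ E.deg → ∀ P : Place k K,
      ∃ w ∈ L E, P.1 w = exp (E P) := by
  obtain ⟨N, hN0, hN⟩ := K660.Compare.riemann hK
  refine ⟨N + 1, by omega, fun E hE P => ?_⟩
  by_contra hcon
  push Not at hcon
  have hle : L E ≤ L (E - Finsupp.single P 1) := fun w hw =>
    mem_L_sub_single hw (lt_of_le_of_ne (hw P) (hcon w hw))
  have := K660.Compare.finite_L hK (E - Finsupp.single P 1)
  have h1 : ell E ≤ ell (E - Finsupp.single P 1) := Submodule.finrank_mono hle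
  have h2 : Divisor.deg (E - Finsupp.single P 1) = E.deg - 1 := by
    rw [deg_sub, deg_single, deg_place hK]; simp
  have h3 := hN E (by omega)
  have h4 := hN (E - Finsupp.single P 1) (by omega)
  omega

/-- Pole divisor. -/
theorem exists_poleDiv (hK : IsFunctionField k K) (z : K) (P : Place k K) (hz : P.1 z ≤ 1) :
    ∃ Z : Divisor k K, 0 ≤ Z ∧ Z P = 0 ∧ z ∈ L Z := by
  by_cases hz0 : z = 0
  · exact ⟨0, le_rfl, rfl, hz0 ▸ Submodule.zero_mem _⟩
  · refine ⟨(-FunFld.div k z) ⊔ 0, le_sup_right, ?_, ?_⟩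
    · rw [Finsupp.sup_apply, Finsupp.neg_apply, div_apply hK]
      rw [val_le_one_iff P hz0] at hz
      simp [hz]
    · rw [mem_L_iff_ord hz0]
      intro Q
      rw [Finsupp.sup_apply, Finsupp.neg_apply, div_apply hK]
      have : -(Q.ord z) ≤ max (-(Q.ord z)) ((0 : Divisor k K) Q) := le_max_left _ _
      omega

/-- For `z` integral at `P` and `deg D > 0`, for all large `n` there is `w ∈ L(nD)` of exact order at `P`
with `w z ∈ L(nD)`. -/
theorem exists_exact_denominator (hK : IsFunctionField k K) {D : Divisor k K} (hD : 0 < D.deg)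
    (P : Place k K) {z : K} (hz : P.1 z ≤ 1) :
    ∃ n₀ : ℕ, ∀ n ≥ n₀, ∃ w ∈ L (n • D), P.1 w = exp (n * D P) ∧ z * w ∈ L (n • D) := by
  obtain ⟨N, hN0, hN⟩ := exists_bound_exact (k := k) (K := K) hK
  obtain ⟨Z, hZ0, hZP, hzZ⟩ := exists_poleDiv hK z P hz
  refine ⟨(N + Z.deg).toNat, fun n hn => ?_⟩
  obtain ⟨w, hw, hwP⟩ := hN (n • D - Z) (by
    rw [deg_sub, deg_nsmul]
    have h1 : N + Z.deg ≤ n := by omega
    nlinarith) P
  refine ⟨w, L_mono (sub_le_self _ hZ0) hw, ?_, ?_⟩
  · rw [hwP, Finsupp.sub_apply, hZP, sub_zero]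
    simp
  · have := mul_mem_L hzZ hw
    rwa [add_sub_cancel] at this

end exact

section criteria

variable [IsAlgClosed k] {W : Submodule k K} {D : Divisor k K}

/-- If the conductor element `b ∈ W^m` has exact order at `P` then every `z ∈ O_P` is a ratio of elements
of `W^n` with denominator of exact order. -/
theorem exists_ratio_of_conductor_exact (hK : IsFunctionField k K) (hdeg : 0 < D.deg)
    {m n₁ : ℕ} {b : K}
    (hcond : ∀ n ≥ n₁, ∀ z ∈ L (n • D), b * z ∈ W ^ (m + n)) (P : Place k K)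
    (hb : P.1 b = exp (m * D P)) {z : K} (hz : P.1 z ≤ 1) :
    ∃ n : ℕ, ∃ a ∈ W ^ n, ∃ c ∈ W ^ n, P.1 c = exp (n * D P) ∧ z * c = a := by
  obtain ⟨n₀, hn₀⟩ := exists_exact_denominator hK hdeg P hz
  obtain ⟨w, hw, hwP, hzw⟩ := hn₀ (max n₀ n₁) (le_max_left _ _)
  refine ⟨m + max n₀ n₁, b * (z * w), hcond _ (le_max_right _ _) _ hzw, b * w,
    hcond _ (le_max_right _ _) _ hw, ?_, by ring⟩
  rw [map_mul, hb, hwP, ← exp_add]
  congr 1; push_cast; ring

/-- If `W^n = L(nD)` for all large `n` then every `z ∈ O_P` is a ratio of elements of `W^n` with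
denominator of exact order. -/
theorem exists_ratio_of_pow_eq (hK : IsFunctionField k K) (hdeg : 0 < D.deg)
    {n₁ : ℕ} (h : ∀ n ≥ n₁, L (n • D) ≤ W ^ n) (P : Place k K) {z : K} (hz : P.1 z ≤ 1) :
    ∃ n : ℕ, ∃ a ∈ W ^ n, ∃ c ∈ W ^ n, P.1 c = exp (n * D P) ∧ z * c = a := by
  obtain ⟨n₀, hn₀⟩ := exists_exact_denominator hK hdeg P hz
  obtain ⟨w, hw, hwP, hzw⟩ := hn₀ (max n₀ n₁) (le_max_left _ _)
  exact ⟨max n₀ n₁, z * w, h _ (le_max_right _ _) hzw, w, h _ (le_max_right _ _) hw, hwP, rfl⟩

/-- In a birational situation the degree of `D` is positive. -/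
theorem deg_pos_of_ratio (hK : IsFunctionField k K) (hW : BPF W D)
    (hbir : ∀ z : K, ∃ n : ℕ, ∃ a ∈ W ^ n, ∃ b ∈ W ^ n, b ≠ 0 ∧ z * b = a) : 0 < D.deg := by
  obtain ⟨u, hu, hu0⟩ := (Submodule.ne_bot_iff _).mp (hW.ne_bot hK)
  have h0 := ell_pos_deg_nonneg hK hu0 (hW.1 hu)
  rcases h0.lt_or_eq with h1 | h1
  · exact h1
  · exfalso
    -- `D = - div u`; then all elements of `W^n` are multiples of `u^n`
    have h2 := eq_neg_div_of_deg_zero hK hu0 (hW.1 hu) h1.symm
    obtain ⟨P⟩ := K660.Places.nonempty_place hK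
    obtain ⟨z, hz⟩ := exists_uniformizer P
    obtain ⟨n, a, ha, b, hb, hb0, h⟩ := hbir z
    have key : ∀ c : K, c ∈ W ^ n → c ≠ 0 → P.1 c = exp (n * D P) := by
      intro c hc hc0
      have h3 := eq_neg_div_of_deg_zero hK hc0 (pow_le_L hW.1 n hc) (by
        rw [deg_nsmul, ← h1, mul_zero])
      rw [val_eq_exp P hc0]
      congr 1
      have h4 := congrArg (fun E : Divisor k K => E P) h3
      simp only [Finsupp.smul_apply, Finsupp.neg_apply, div_apply hK, nsmul_eq_mul] at h4
      exact h4.symm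
    have hz0 : z ≠ 0 := ((val_eq_exp_iff P).mp hz).1
    have ha0 : a ≠ 0 := by rw [← h]; exact mul_ne_zero hz0 hb0
    have h5 := congrArg P.1 h
    rw [map_mul, hz, key a ha ha0, key b hb hb0, ← exp_add, exp_inj] at h5
    omega

/-- All but finitely many places are nonsingular. -/
theorem finite_not_ratio (hK : IsFunctionField k K) (hW : BPF W D)
    (hbir : ∀ z : K, ∃ n : ℕ, ∃ a ∈ W ^ n, ∃ b ∈ W ^ n, b ≠ 0 ∧ z * b = a) :
    {P : Place k K | ¬ ∀ z : K, P.1 z ≤ 1 →
      ∃ n : ℕ, ∃ a ∈ W ^ n, ∃ c ∈ W ^ n, P.1 c = exp (n * D P) ∧ z * c = a}.Finite := by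
  obtain ⟨m, n₁, b, hb, hb0, hcond⟩ := exists_conductor hK hW hbir
  refine (finite_lt hK hb0 (pow_le_L hW.1 m hb)).subset ?_
  intro P hP
  by_contra hcon
  apply hP
  intro z hz
  refine exists_ratio_of_conductor_exact hK (deg_pos_of_ratio hK hW hbir) hcond P ?_ hz
  simpa using hcon

/-- Local criterion: if `W` separates `P` from all other places and from its tangent direction, then
`O_P` consists of ratios with denominator of exact order. -/
theorem exists_ratio_of_separates (hK : IsFunctionField k K) (hW : BPF W D)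
    (hbir : ∀ z : K, ∃ n : ℕ, ∃ a ∈ W ^ n, ∃ b ∈ W ^ n, b ≠ 0 ∧ z * b = a) (P : Place k K)
    (htan : ∃ w ∈ W, P.1 w = exp (D P - 1))
    (hsep : ∀ Q : Place k K, Q ≠ P → ∃ w ∈ W, P.1 w = exp (D P) ∧ Q.1 w < exp (D Q))
    {z : K} (hz : P.1 z ≤ 1) :
    ∃ n : ℕ, ∃ a ∈ W ^ n, ∃ c ∈ W ^ n, P.1 c = exp (n * D P) ∧ z * c = a := by
  classical
  obtain ⟨u, hu, huP⟩ := hW.2 P
  have hu0 : u ≠ 0 := ((val_eq_exp_iff P).mp huP).1
  -- the set of good elements is closed under addition, multiplication
  let R : Set K := {z | ∃ n : ℕ, ∃ a ∈ W ^ n, ∃ c ∈ W ^ n, P.1 c = exp (n * D P) ∧ z * c = a}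
  have hadd : ∀ x y, x ∈ R → y ∈ R → x + y ∈ R := by
    rintro x y ⟨n, a, ha, c, hc, hcP, h⟩ ⟨n', a', ha', c', hc', hcP', h'⟩
    refine ⟨n + n', a * c' + c * a', Submodule.add_mem _ (mul_mem_pow ha hc') (mul_mem_pow hc ha'),
      c * c', mul_mem_pow hc hc', ?_, ?_⟩
    · rw [map_mul, hcP, hcP', ← exp_add]; congr 1; push_cast; ring
    · rw [← h, ← h']; ring
  have hmul : ∀ x y, x ∈ R → y ∈ R → x * y ∈ R := by
    rintro x y ⟨n, a, ha, c, hc, hcP, h⟩ ⟨n', a', ha', c', hc', hcP', h'⟩
    refine ⟨n + n', a * a', mul_mem_pow ha ha', c * c', mul_mem_pow hc hc', ?_, ?_⟩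
    · rw [map_mul, hcP, hcP', ← exp_add]; congr 1; push_cast; ring
    · rw [← h, ← h']; ring
  have hconst : ∀ c : k, algebraMap k K c ∈ R := by
    intro c
    refine ⟨0, algebraMap k K c, ?_, 1, ?_, by simp, mul_one _⟩
    · rw [pow_zero]; exact Submodule.algebraMap_mem c
    · rw [pow_zero]; exact Submodule.one_le.mp le_rfl
  have hquot : ∀ w ∈ W, w / u ∈ R := fun w hw =>
    ⟨1, w, by rwa [pow_one], u, by rwa [pow_one], by simpa using huP, div_mul_cancel₀ _ hu0⟩
  -- step 1: elements of large order at `P`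
  obtain ⟨m, n₁, b, hb, hb0, hcond⟩ := exists_conductor hK hW hbir
  have step1 : ∀ z : K, z ≠ 0 → P.ord (b / u ^ m) ≤ P.ord z → z ∈ R := by
    intro z hz0 hz
    have hbu0 : b / u ^ m ≠ 0 := div_ne_zero hb0 (pow_ne_zero _ hu0)
    -- `z' = z u^m / b` is integral at `P`
    have hz' : P.1 (z / (b / u ^ m)) ≤ 1 := by
      rw [val_le_one_iff P (div_ne_zero hz0 hbu0), ord_div P hz0 hbu0]; omega
    obtain ⟨Z, hZ0, hZP, hzZ⟩ := exists_poleDiv hK _ P hz'
    -- `w` in a power of `W`, exact at `P`, in `L(nD - Z)`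
    obtain ⟨n, w, hw, hwP, hwZ⟩ : ∃ n : ℕ, ∃ w ∈ W ^ n, P.1 w = exp (n * D P) ∧
        w ∈ L (n • D - Z) := by
      choose! f hf1 hf2 hf3 using hsep
      refine ⟨∑ Q ∈ Z.support, (Z Q).toNat, ∏ Q ∈ Z.support, (f Q) ^ (Z Q).toNat, ?_, ?_, ?_⟩
      · have : ∀ s : Finset (Place k K), (∀ Q ∈ s, Q ≠ P) →
            ∏ Q ∈ s, (f Q) ^ (Z Q).toNat ∈ W ^ (∑ Q ∈ s, (Z Q).toNat) := by
          intro s
          induction s using Finset.induction_on with
          | empty => intro _; simp only [Finset.prod_empty, Finset.sum_empty, pow_zero]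
                     exact Submodule.one_le.mp le_rfl
          | insert Q s hQ ih =>
            intro hs
            rw [Finset.prod_insert hQ, Finset.sum_insert hQ]
            exact mul_mem_pow (pow_mem_pow (hf1 Q (hs Q (Finset.mem_insert_self _ _))) _)
              (ih fun R hR => hs R (Finset.mem_insert_of_mem hR))
        apply this
        rintro Q hQ rfl
        rw [Finsupp.mem_support_iff] at hQ
        exact hQ hZP
      · rw [map_prod]
        have : ∀ Q ∈ Z.support, P.1 (f Q ^ (Z Q).toNat) = exp (((Z Q).toNat : ℤ) * D P) := by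
          intro Q hQ
          apply val_pow_eq
          apply hf2
          rintro rfl
          rw [Finsupp.mem_support_iff] at hQ
          exact hQ hZP
        rw [Finset.prod_congr rfl this]
        push_cast
        rw [Finset.sum_mul]
        have hexp : ∀ (s : Finset (Place k K)) (g : Place k K → ℤ),
            ∏ Q ∈ s, exp (g Q) = exp (∑ Q ∈ s, g Q) := by
          intro s g
          induction s using Finset.induction_on with
          | empty => simp
          | insert Q s hQ ih => rw [Finset.prod_insert hQ, Finset.sum_insert hQ, ih, exp_add]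
        rw [hexp]
      · intro Q
        rw [map_prod, Finsupp.sub_apply]
        have hexp : ∀ (s : Finset (Place k K)) (g : Place k K → ℤ),
            ∏ Q ∈ s, exp (g Q) = exp (∑ Q ∈ s, g Q) := by
          intro s g
          induction s using Finset.induction_on with
          | empty => simp
          | insert Q s hQ ih => rw [Finset.prod_insert hQ, Finset.sum_insert hQ, ih, exp_add]
        have hle : ∀ R ∈ Z.support, Q.1 (f R ^ (Z R).toNat) ≤
            exp (((Z R).toNat : ℤ) * D Q - if R = Q then ((Z R).toNat : ℤ) else 0) := by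
          intro R hR
          have hRP : R ≠ P := by
            rintro rfl
            rw [Finsupp.mem_support_iff] at hR
            exact hR hZP
          rw [map_pow]
          split_ifs with hRQ
          · subst hRQ
            have h1 : R.1 (f R) ≤ exp (D R - 1) := by
              have h2 := hf3 R hRP
              by_cases h0 : f R = 0
              · rw [h0, map_zero]; exact zero_le
              · rw [val_lt_exp_iff R h0] at h2
                rw [val_le_exp_iff R h0]; omega
            calc R.1 (f R) ^ (Z R).toNat ≤ exp (D R - 1) ^ (Z R).toNat := pow_le_pow_left' h1 _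
              _ = exp (((Z R).toNat : ℤ) * D R - ((Z R).toNat : ℤ)) := by
                rw [← exp_nsmul, nsmul_eq_mul]; congr 1; ring
          · calc Q.1 (f R) ^ (Z R).toNat ≤ exp (D Q) ^ (Z R).toNat :=
                  pow_le_pow_left' (hW.1 (hf1 R hRP) Q) _
              _ = _ := by rw [← exp_nsmul, nsmul_eq_mul, sub_zero]
        calc ∏ R ∈ Z.support, Q.1 (f R ^ (Z R).toNat)
            ≤ ∏ R ∈ Z.support, exp (((Z R).toNat : ℤ) * D Q - if R = Q then ((Z R).toNat : ℤ) else 0) :=
              Finset.prod_le_prod' hle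
          _ = exp (∑ R ∈ Z.support,
                (((Z R).toNat : ℤ) * D Q - if R = Q then ((Z R).toNat : ℤ) else 0)) := hexp _ _
          _ ≤ _ := by
            rw [exp_le_exp, Finset.sum_sub_distrib, Finset.sum_ite_eq']
            have h1 : (((∑ R ∈ Z.support, (Z R).toNat) • D : Divisor k K) : Place k K → ℤ) Q =
                ∑ R ∈ Z.support, ((Z R).toNat : ℤ) * D Q := by
              rw [Finsupp.smul_apply, nsmul_eq_mul, ← Finset.sum_mul]; push_cast; rfl
            rw [h1]
            have h2 : Z Q ≤ if Q ∈ Z.support then ((Z Q).toNat : ℤ) else 0 := by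
              split_ifs with h
              · exact Int.self_le_toNat _
              · rw [Finsupp.notMem_support_iff] at h; exact h.le
            omega
    -- pad to reach degree `≥ n₁`
    have hw' : w * u ^ n₁ ∈ L ((n + n₁) • D - Z) := by
      have h1 := mul_mem_L hwZ (pow_mem_L (hW.1 hu) n₁)
      have h2 : n • D - Z + n₁ • D = (n + n₁) • D - Z := by rw [add_smul]; abel
      rwa [h2] at h1
    have hzw : (z / (b / u ^ m)) * (w * u ^ n₁) ∈ L ((n + n₁) • D) := by
      have := mul_mem_L hzZ hw'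
      rwa [add_sub_cancel] at this
    have h3 := hcond (n + n₁) (by omega) _ hzw
    refine ⟨m + (n + n₁), _, h3, u ^ m * (w * u ^ n₁),
      mul_mem_pow (pow_mem_pow hu m) (mul_mem_pow hw (pow_mem_pow hu n₁)), ?_, ?_⟩
    · rw [map_mul, map_mul, hwP, val_pow_eq huP, val_pow_eq huP, ← exp_add, ← exp_add]
      congr 1; push_cast; ring
    · field_simp
  -- step 2: expansion in powers of `t = w₁ / u`
  obtain ⟨w₁, hw₁, hw₁P⟩ := htan
  have ht : P.1 (w₁ / u) = exp (-1) := by
    rw [map_div₀, hw₁P, huP, ← exp_sub]; congr 1; ring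
  have htR : w₁ / u ∈ R := hquot w₁ hw₁
  have htpow : ∀ n : ℕ, (w₁ / u) ^ n ∈ R := by
    intro n
    induction n with
    | zero => rw [pow_zero, ← map_one (algebraMap k K)]; exact hconst 1
    | succ n ih => rw [pow_succ]; exact hmul _ _ ih htR
  have step2 : ∀ n : ℕ, ∀ z : K, P.1 z ≤ 1 → ∃ y ∈ R, P.1 (z - y) ≤ exp (-(n : ℤ)) := by
    intro n
    induction n with
    | zero =>
      intro z hz
      refine ⟨0, by rw [← map_zero (algebraMap k K)]; exact hconst 0, by simpa using hz⟩
    | succ n ih =>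
      intro z hz
      obtain ⟨y, hy, hzy⟩ := ih z hz
      obtain ⟨c, hc⟩ := exists_smul_sub_le hK P (v := (w₁ / u) ^ n) (n := -(n : ℤ)) (by
        rw [val_pow_eq ht]; congr 1; ring) hzy
      refine ⟨y + c • (w₁ / u) ^ n, hadd _ _ hy ?_, ?_⟩
      · rw [Algebra.smul_def]; exact hmul _ _ (hconst c) (htpow n)
      · rw [← sub_sub]
        convert hc using 2
        push_cast; ring
  obtain ⟨y, hy, hzy⟩ := step2 (P.ord (b / u ^ m)).toNat z hz
  have : z = y + (z - y) := by ring
  rw [this]
  refine hadd _ _ hy ?_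
  by_cases h0 : z - y = 0
  · rw [h0, ← map_zero (algebraMap k K)]; exact hconst 0
  · apply step1 _ h0
    rw [val_le_exp_iff P h0] at hzy
    omega

end criteria

end K664
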