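import Groth.Agent.FunFld.K664.App

/-! The codimension two criterion for nonsingularity of a projective map at a place (helper664). -/

set_option autoImplicit false

open WithZero

namespace K664

open FunFld

variable {k K : Type*} [Field k] [Field K] [Algebra k K]

theorem val_mul_lt (P : Place k K) {x y : K} {m n l : ℤ} (hx : P.1 x < exp m) (hy : P.1 y ≤ exp n)
    (hl : l = m + n) : P.1 (x * y) < exp l := by
  subst hl
  rw [map_mul, exp_add]
  exact mul_lt_mul_of_lt_of_le_of_nonneg_of_pos hx hy zero_le (by simp)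

theorem val_mul_lt' (P : Place k K) {x y : K} {m n l : ℤ} (hx : P.1 x ≤ exp m)
    (hy : P.1 y < exp n) (hl : l = m + n) : P.1 (x * y) < exp l := by
  subst hl
  rw [map_mul, exp_add]
  exact mul_lt_mul_of_le_of_lt_of_nonneg_of_pos hx hy zero_le (by simp)

theorem val_add_lt (P : Place k K) {x y : K} {m : ℤ} (hx : P.1 x < exp m) (hy : P.1 y < exp m) :
    P.1 (x + y) < exp m :=
  lt_of_le_of_lt (P.1.map_add _ _) (max_lt hx hy)

section

variable [IsAlgClosed k] {W : Submodule k K} {D : Divisor k K}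

/-- If the local ring at `P` is the whole valuation ring, `W` contains an element of order one more
than the minimum at `P`. -/
theorem exists_tangent (hK : IsFunctionField k K) (hW : BPF W D) (P : Place k K)
    (hP : ∀ z : K, P.1 z ≤ 1 → ∃ n : ℕ, ∃ a ∈ W ^ n, ∃ c ∈ W ^ n, P.1 c = exp (n * D P) ∧ z * c = a) :
    ∃ w ∈ W, P.1 w = exp (D P - 1) := by
  by_contra hcon
  push Not at hcon
  obtain ⟨u, hu, huP⟩ := hW.2 P
  have hu0 : u ≠ 0 := ((val_eq_exp_iff P).mp huP).1
  have h1 : ∀ w ∈ W, P.1 w ≤ exp (D P - 1) → P.1 w ≤ exp (D P - 2) := by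
    intro w hw hle
    have h2 := lt_of_le_of_ne hle (hcon w hw)
    by_cases h0 : w = 0
    · rw [h0, map_zero]; exact zero_le
    · rw [val_lt_exp_iff P h0] at h2
      rw [val_le_exp_iff P h0]; omega
  have key : ∀ n : ℕ, ∀ a ∈ W ^ n, ∃ c : k, P.1 (a - c • u ^ n) ≤ exp (n * D P - 2) := by
    intro n
    induction n with
    | zero =>
      intro a ha
      rw [pow_zero] at ha
      obtain ⟨c, rfl⟩ := Submodule.mem_one.mp ha
      exact ⟨c, by rw [pow_zero, Algebra.smul_def, mul_one, sub_self, map_zero]; exact zero_le⟩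
    | succ n ih =>
      intro a ha
      rw [pow_succ] at ha
      refine Submodule.mul_induction_on ha ?_ ?_
      · intro x hx y hy
        obtain ⟨c, hc⟩ := ih x hx
        obtain ⟨c', hc'⟩ := exists_smul_sub_le hK P huP (hW.1 hy P)
        have hc'' := h1 _ (W.sub_mem hy (W.smul_mem c' hu)) hc'
        refine ⟨c * c', ?_⟩
        have h2 : x * y - (c * c') • u ^ (n + 1) =
            (x - c • u ^ n) * y + (c • u ^ n) * (y - c' • u) := by
          simp only [Algebra.smul_def, map_mul, pow_succ]; ring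
        rw [h2]
        refine (P.1.map_add _ _).trans (max_le ?_ ?_)
        · rw [map_mul]
          calc P.1 (x - c • u ^ n) * P.1 y ≤ exp (n * D P - 2) * exp (D P) :=
                mul_le_mul' hc (hW.1 hy P)
            _ = _ := by rw [← exp_add]; congr 1; push_cast; ring
        · rw [map_mul]
          calc P.1 (c • u ^ n) * P.1 (y - c' • u) ≤ exp (n * D P) * exp (D P - 2) :=
                mul_le_mul' ((val_smul_le P c _).trans (val_pow_eq huP n).le) hc''
            _ = _ := by rw [← exp_add]; congr 1; push_cast; ring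
      · rintro x y ⟨c, hc⟩ ⟨c', hc'⟩
        refine ⟨c + c', ?_⟩
        have h2 : x + y - (c + c') • u ^ (n + 1) =
            (x - c • u ^ (n + 1)) + (y - c' • u ^ (n + 1)) := by
          rw [add_smul]; ring
        rw [h2]
        exact (P.1.map_add _ _).trans (max_le hc hc')
  obtain ⟨t, ht⟩ := exists_uniformizer P
  obtain ⟨n, a, ha, b, hb, hbP, h⟩ := hP t (by rw [ht, ← exp_zero, exp_le_exp]; norm_num)
  obtain ⟨c, hc⟩ := key n a ha
  have hta : P.1 a = exp (n * D P - 1) := by
    rw [← h, map_mul, ht, hbP, ← exp_add]; congr 1; ring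
  by_cases hc0 : c = 0
  · rw [hc0, zero_smul, sub_zero, hta, exp_le_exp] at hc
    omega
  · have h3 : P.1 (c • u ^ n) = exp (n * D P) := by rw [val_smul P hc0, val_pow_eq huP]
    have h4 : P.1 (a - c • u ^ n) = exp (n * D P) := by
      rw [val_sub_eq_of_lt P, h3]
      rw [h3, hta, exp_lt_exp]; omega
    rw [h4, exp_le_exp] at hc
    omega

/-- If the local ring at `P` is the whole valuation ring, then for every `Q ≠ P` some `w ∈ W` vanishes
at `P` and not at `Q`. -/
theorem exists_separating (hK : IsFunctionField k K) (hW : BPF W D) (P : Place k K)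
    (hP : ∀ z : K, P.1 z ≤ 1 → ∃ n : ℕ, ∃ a ∈ W ^ n, ∃ c ∈ W ^ n, P.1 c = exp (n * D P) ∧ z * c = a)
    (Q : Place k K) (hQ : Q ≠ P) :
    ∃ w ∈ W, P.1 w < exp (D P) ∧ Q.1 w = exp (D Q) := by
  by_contra hcon
  push Not at hcon
  obtain ⟨u, hu, -, hu2⟩ := hW.exists_exact {P, Q} (by simp) ⊥ (by
    rw [le_bot_iff]; exact hW.ne_bot hK)
  have huP := hu2 P (by simp)
  have huQ := hu2 Q (by simp)
  have h1 : ∀ w ∈ W, P.1 w < exp (D P) → Q.1 w < exp (D Q) := by
    intro w hw hlt
    exact lt_of_le_of_ne (hW.1 hw Q) (hcon w hw hlt)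
  have key : ∀ n : ℕ, ∀ a ∈ W ^ n, ∃ c : k, P.1 (a - c • u ^ n) < exp (n * D P) ∧
      Q.1 (a - c • u ^ n) < exp (n * D Q) := by
    intro n
    induction n with
    | zero =>
      intro a ha
      rw [pow_zero] at ha
      obtain ⟨c, rfl⟩ := Submodule.mem_one.mp ha
      refine ⟨c, ?_, ?_⟩ <;>
      · rw [pow_zero, Algebra.smul_def, mul_one, sub_self, map_zero]; simp
    | succ n ih =>
      intro a ha
      rw [pow_succ] at ha
      refine Submodule.mul_induction_on ha ?_ ?_
      · intro x hx y hy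
        obtain ⟨c, hc1, hc2⟩ := ih x hx
        obtain ⟨c', hc'⟩ := exists_smul_sub_le hK P huP (hW.1 hy P)
        have hc1' : P.1 (y - c' • u) < exp (D P) := lt_of_le_of_lt hc' (by rw [exp_lt_exp]; omega)
        have hc2' := h1 _ (W.sub_mem hy (W.smul_mem c' hu)) hc1'
        have h2 : x * y - (c * c') • u ^ (n + 1) =
            (x - c • u ^ n) * y + (c • u ^ n) * (y - c' • u) := by
          simp only [Algebra.smul_def, map_mul, pow_succ]; ring
        refine ⟨c * c', ?_, ?_⟩
        · rw [h2]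
          exact val_add_lt P (val_mul_lt P hc1 (hW.1 hy P) (by push_cast; ring))
            (val_mul_lt' P ((val_smul_le P c _).trans (val_pow_eq huP n).le) hc1'
              (by push_cast; ring))
        · rw [h2]
          exact val_add_lt Q (val_mul_lt Q hc2 (hW.1 hy Q) (by push_cast; ring))
            (val_mul_lt' Q ((val_smul_le Q c _).trans (val_pow_eq huQ n).le) hc2'
              (by push_cast; ring))
      · rintro x y ⟨c, hc1, hc2⟩ ⟨c', hc1', hc2'⟩
        have h2 : x + y - (c + c') • u ^ (n + 1) =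
            (x - c • u ^ (n + 1)) + (y - c' • u ^ (n + 1)) := by
          rw [add_smul]; ring
        refine ⟨c + c', ?_, ?_⟩
        · rw [h2]; exact val_add_lt P hc1 hc1'
        · rw [h2]; exact val_add_lt Q hc2 hc2'
  obtain ⟨z, hz1, hz2⟩ := exists_val_le_one_and_one_lt (P := P) (Q := Q) (Ne.symm hQ)
  obtain ⟨n, a, ha, b, hb, hbP, h⟩ := hP z hz1
  obtain ⟨c, hc1, hc2⟩ := key n b hb
  have hc0 : c ≠ 0 := by
    rintro rfl
    rw [zero_smul, sub_zero, hbP] at hc1
    exact lt_irrefl _ hc1
  have h3 : Q.1 (c • u ^ n) = exp (n * D Q) := by rw [val_smul Q hc0, val_pow_eq huQ]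
  have h4 : Q.1 b = exp (n * D Q) := by
    have : b = c • u ^ n + (b - c • u ^ n) := by ring
    rw [this, val_add_eq_of_gt Q, h3]
    rw [h3]; exact hc2
  have h5 := val_pow_le hW.1 ha Q
  rw [← h, map_mul, h4] at h5
  have h6 : exp (n * D Q) < Q.1 z * exp (n * D Q) := by
    conv_lhs => rw [← one_mul (exp (n * D Q))]
    exact mul_lt_mul_of_lt_of_le_of_nonneg_of_pos hz2 le_rfl zero_le (by simp)
  exact absurd h5 (not_le.mpr h6)

theorem inf_L_sub_sub (E : Divisor k K) (P Q : Place k K) :
    (W ⊓ L (E - Finsupp.single P 1)) ⊓ L (E - Finsupp.single P 1 - Finsupp.single Q 1) =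
      W ⊓ L (E - Finsupp.single P 1 - Finsupp.single Q 1) := by
  have h : L (E - Finsupp.single P 1 - Finsupp.single Q 1) ≤ L (E - Finsupp.single P 1) := by
    apply L_mono
    rw [sub_le_self_iff]
    exact Finsupp.single_nonneg.mpr zero_le_one
  rw [inf_assoc, inf_eq_right.mpr h]

/-- The codimension two criterion. -/
theorem ratio_iff_codim_two (hK : IsFunctionField k K) [FiniteDimensional k W] (hW : BPF W D)
    (hbir : ∀ z : K, ∃ n : ℕ, ∃ a ∈ W ^ n, ∃ b ∈ W ^ n, b ≠ 0 ∧ z * b = a) (P : Place k K) :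
    (∀ z : K, P.1 z ≤ 1 → ∃ n : ℕ, ∃ a ∈ W ^ n, ∃ c ∈ W ^ n, P.1 c = exp (n * D P) ∧ z * c = a) ↔
      ∀ Q : Place k K,
        Module.finrank k ↥(W ⊓ L (D - Finsupp.single P 1 - Finsupp.single Q 1)) + 2 =
          Module.finrank k W := by
  classical
  have hdrop : ∀ P : Place k K,
      Module.finrank k ↥(W ⊓ L (D - Finsupp.single P 1)) + 1 = Module.finrank k W := by
    intro P
    obtain ⟨v₀, hv₀, h₀⟩ := hW.2 P
    exact finrank_inf_L_sub_single hK W D hW.1 P hv₀ h₀
  constructor
  · intro hP Q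
    -- an element of `W ⊓ L(D - P)` of exact order at `Q`
    have hex : ∃ w ∈ W ⊓ L (D - Finsupp.single P 1),
        Q.1 w = exp (((D - Finsupp.single P 1 : Divisor k K) : Place k K → ℤ) Q) := by
      by_cases hQP : Q = P
      · subst hQP
        obtain ⟨w, hw, hwP⟩ := exists_tangent hK hW Q hP
        refine ⟨w, ⟨hw, mem_L_sub_single (hW.1 hw) ?_⟩, ?_⟩
        · rw [hwP, exp_lt_exp]; omega
        · rw [sub_single_apply_self]; exact hwP
      · obtain ⟨w, hw, hwP, hwQ⟩ := exists_separating hK hW P hP Q hQP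
        refine ⟨w, ⟨hw, mem_L_sub_single (hW.1 hw) hwP⟩, ?_⟩
        rw [sub_single_apply_ne D hQP]; exact hwQ
    obtain ⟨w, hw, hwQ⟩ := hex
    have h1 := finrank_inf_L_sub_single hK (W ⊓ L (D - Finsupp.single P 1))
      (D - Finsupp.single P 1) inf_le_right Q hw hwQ
    rw [inf_L_sub_sub] at h1
    have h2 := hdrop P
    omega
  · intro h z hz
    refine exists_ratio_of_separates hK hW hbir P ?_ ?_ hz
    · by_contra hcon
      push Not at hcon
      have h1 : W ⊓ L (D - Finsupp.single P 1) ≤
          L (D - Finsupp.single P 1 - Finsupp.single P 1) := by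
        rintro w ⟨hw, hw'⟩
        refine mem_L_sub_single hw' (lt_of_le_of_ne (hw' P) ?_)
        rw [sub_single_apply_self]; exact hcon w hw
      have h2 := h P
      rw [← inf_L_sub_sub, inf_eq_left.mpr h1] at h2
      have h3 := hdrop P
      omega
    · intro Q hQP
      by_contra hcon
      push Not at hcon
      have h1 : W ⊓ L (D - Finsupp.single Q 1) ≤
          L (D - Finsupp.single Q 1 - Finsupp.single P 1) := by
        rintro w ⟨hw, hw'⟩
        have h2 := lt_of_mem_L_sub_single hw'
        refine mem_L_sub_single hw' (lt_of_le_of_ne (hw' P) ?_)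
        rw [sub_single_apply_ne D (Ne.symm hQP)]
        intro h3
        exact absurd (hcon w hw h3) (not_le.mpr h2)
      have h2 := h Q
      rw [sub_right_comm, ← inf_L_sub_sub, inf_eq_left.mpr h1] at h2
      have h3 := hdrop Q
      omega

end

end K664
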