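import Groth.Agent.FunFld.K664.LocW
import Groth.Agent.FunFld.K660.Weil

/-! The conductor theorem for a birational projective map (helper664): for `W ≤ K` finite-dimensional
generating the divisor `D` (`BPF W D`), with every element of `K` a ratio of elements of a common power
of `W`, there is `b ≠ 0` in some `W^m` with `b L(nD) ⊆ W^(m+n)` for all large `n`. -/

set_option autoImplicit false

open WithZero

namespace K664

open FunFld

variable {k K : Type*} [Field k] [Field K] [Algebra k K]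

theorem ell_pos_deg_nonneg (hK : IsFunctionField k K) {D : Divisor k K} {w : K} (hw : w ≠ 0)
    (hwD : w ∈ L D) : 0 ≤ D.deg := by
  by_contra hcon
  push Not at hcon
  have := K660.Compare.L_eq_bot_of_deg_neg hK hcon
  rw [this, Submodule.mem_bot] at hwD
  exact hw hwD

/-- If `deg D = 0` and `w ∈ L(D)` is nonzero then `D = -div w`. -/
theorem eq_neg_div_of_deg_zero (hK : IsFunctionField k K) {D : Divisor k K} {w : K} (hw : w ≠ 0)
    (hwD : w ∈ L D) (h0 : D.deg = 0) : D = - FunFld.div k w := by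
  have h1 : 0 ≤ D + FunFld.div k w := (K660.Compare.mem_L_iff hK hw).mp hwD
  have h2 : Divisor.deg (D + FunFld.div k w) = 0 := by
    rw [deg_add, h0, K660.Compare.deg_div hK, add_zero]
  by_contra hne
  have h3 : D + FunFld.div k w ≠ 0 := by
    intro h; apply hne; exact eq_neg_of_add_eq_zero_left h
  have := K660.Compare.deg_pos hK h1 h3
  omega

/-- A base point free pair with `W` not a line has positive degree. -/
theorem BPF.deg_pos (hK : IsFunctionField k K) {W : Submodule k K} {D : Divisor k K}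
    (h : W ≤ L D) {u v : K} (hu : u ∈ W) (hv : v ∈ W) (hu0 : u ≠ 0)
    (huv : v ∉ Submodule.span k {u}) : 0 < D.deg := by
  have h0 := ell_pos_deg_nonneg hK hu0 (h hu)
  rcases h0.lt_or_eq with h1 | h1
  · exact h1
  · exfalso
    have hv0 : v ≠ 0 := by
      rintro rfl; exact huv (Submodule.zero_mem _)
    have h2 := eq_neg_div_of_deg_zero hK hu0 (h hu) h1.symm
    have h3 := eq_neg_div_of_deg_zero hK hv0 (h hv) h1.symm
    apply huv
    have h4 : v / u ∈ L (0 : Divisor k K) := by
      rw [mem_L_iff_ord (div_ne_zero hv0 hu0)]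
      intro P
      rw [ord_div P hv0 hu0]
      have h5 : D P = -(P.ord u) := by rw [h2]; simp [div_apply hK]
      have h6 : D P = -(P.ord v) := by rw [h3]; simp [div_apply hK]
      simp only [Finsupp.coe_zero, Pi.zero_apply]
      omega
    rw [K660.Compare.L_zero hK, Submodule.mem_one] at h4
    obtain ⟨c, hc⟩ := h4
    rw [Submodule.mem_span_singleton]
    exact ⟨c, by rw [Algebra.smul_def, hc, div_mul_cancel₀ _ hu0]⟩

/-- **Pencil generation**: for a base point free pencil `u, v` of `L(D)` with `deg D > 0`,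
`L((n+1)D) = u L(nD) + v L(nD)` for all large `n`. -/
theorem exists_pencil_step (hK : IsFunctionField k K) {D : Divisor k K} (hD : 0 < D.deg) {u v : K}
    (hu0 : u ≠ 0) (hv0 : v ≠ 0) (hu : u ∈ L D)
    (hv : v ∈ L D) (huv : ∀ P : Place k K, P.1 u = exp (D P) ∨ P.1 v = exp (D P)) :
    ∃ n₁ : ℕ, (∀ n ≥ n₁, (ell (n • D) : ℤ) = n * D.deg + 1 - genus k K) ∧ ∀ n ≥ n₁,
      (L (n • D)).map (LinearMap.mulLeft k u) ⊔ (L (n • D)).map (LinearMap.mulLeft k v) =
        L ((n + 1) • D) := by
  obtain ⟨N, hN0, hN⟩ := K660.Compare.riemann hK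
  have hell : ∀ n : ℕ, N.toNat ≤ n → (ell (n • D) : ℤ) = n * D.deg + 1 - genus k K := by
    intro n hn
    have h1 : N ≤ (n • D).deg := by
      rw [deg_nsmul]
      have : N ≤ n := by omega
      nlinarith
    have := hN (n • D) h1
    rw [deg_nsmul] at this
    omega
  refine ⟨N.toNat + 1, fun n hn => hell n (by omega), fun n hn => ?_⟩
  obtain ⟨m, rfl⟩ : ∃ m, n = m + 1 := ⟨n - 1, by omega⟩
  have e1 : (m + 1 + 1) • D = (m + 1) • D + D := succ_nsmul _ _
  have e2 : (m + 1) • D - D = m • D := by rw [succ_nsmul]; abel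
  have := K660.Compare.finite_L hK ((m + 1) • D + D)
  have := K660.Compare.finite_L hK ((m + 1) • D)
  have := K660.Compare.finite_L hK ((m + 1) • D - D)
  rw [e1]
  refine pencil_step hu0 hv0 hu hv huv ((m + 1) • D) ?_
  rw [e2, ← e1]
  have h1 := hell m (by omega)
  have h2 := hell (m + 1) (by omega)
  have h3 := hell (m + 1 + 1) (by omega)
  push_cast at h1 h2 h3
  have : (ell ((m + 1 + 1) • D) : ℤ) + ell (m • D) = 2 * ell ((m + 1) • D) := by
    rw [h1, h2, h3]; ring
  exact_mod_cast this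

theorem exists_pow_mul {D : Divisor k K} {u v : K} {n₁ : ℕ}
    (h : ∀ n ≥ n₁, (L (n • D)).map (LinearMap.mulLeft k u) ⊔
      (L (n • D)).map (LinearMap.mulLeft k v) = L ((n + 1) • D)) (n : ℕ) (hn : n₁ ≤ n) (j : ℕ) :
    L ((n + j) • D) ≤ (Submodule.span k {u, v}) ^ j * L (n • D) := by
  induction j with
  | zero => rw [pow_zero, one_mul, add_zero]
  | succ j ih =>
    have h1 := h (n + j) (by omega)
    rw [← add_assoc, ← h1]
    have hu : u ∈ Submodule.span k ({u, v} : Set K) := Submodule.subset_span (by simp)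
    have hv : v ∈ Submodule.span k ({u, v} : Set K) := Submodule.subset_span (by simp)
    rw [pow_succ', mul_assoc]
    refine sup_le ?_ ?_
    · rintro _ ⟨a, ha, rfl⟩
      exact Submodule.mul_mem_mul hu (ih ha)
    · rintro _ ⟨a, ha, rfl⟩
      exact Submodule.mul_mem_mul hv (ih ha)

/-- **Conductor theorem.** -/
theorem exists_conductor (hK : IsFunctionField k K) [Infinite k] {W : Submodule k K}
    {D : Divisor k K} (hW : BPF W D)
    (hbir : ∀ z : K, ∃ n : ℕ, ∃ a ∈ W ^ n, ∃ b ∈ W ^ n, b ≠ 0 ∧ z * b = a) :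
    ∃ m n₁ : ℕ, ∃ b ∈ W ^ m, b ≠ 0 ∧ ∀ n ≥ n₁, ∀ z ∈ L (n • D), b * z ∈ W ^ (m + n) := by
  obtain ⟨u, hu, hu0⟩ := (Submodule.ne_bot_iff _).mp (hW.ne_bot hK)
  have hnle : ¬ W ≤ Submodule.span k {u} := by
    intro hle
    -- every ratio would be a constant
    obtain ⟨P⟩ := K660.Places.nonempty_place hK
    obtain ⟨z, hz⟩ := exists_uniformizer P
    obtain ⟨n, a, ha, b, hb, hb0, h⟩ := hbir z
    have hpow : ∀ n : ℕ, W ^ n ≤ Submodule.span k {u ^ n} := by
      intro n
      calc W ^ n ≤ (Submodule.span k {u}) ^ n := pow_le_pow_left' hle n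
        _ = Submodule.span k {u ^ n} := by rw [Submodule.span_pow, Set.singleton_pow]
    obtain ⟨c, rfl⟩ := Submodule.mem_span_singleton.mp (hpow n ha)
    obtain ⟨c', rfl⟩ := Submodule.mem_span_singleton.mp (hpow n hb)
    have hc' : c' ≠ 0 := by rintro rfl; simp at hb0
    have hz0 : z ≠ 0 := ((val_eq_exp_iff P).mp hz).1
    have hc : c ≠ 0 := by
      rintro rfl
      rw [zero_smul, mul_eq_zero] at h
      exact h.elim hz0 hb0
    have h1 := congrArg P.1 h
    rw [map_mul, val_smul P hc', val_smul P hc, hz, mul_eq_right₀ (val_ne_zero P (pow_ne_zero n hu0))]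
      at h1
    rw [← exp_zero, exp_inj] at h1
    omega
  obtain ⟨v, hv, hvu, huv⟩ := hW.exists_pencil hK hu hu0 _ hnle
  have hv0 : v ≠ 0 := by rintro rfl; exact hvu (Submodule.zero_mem _)
  have hdeg : 0 < D.deg := BPF.deg_pos hK hW.1 hu hv hu0 hvu
  obtain ⟨n₁, -, hn₁⟩ := exists_pencil_step hK hdeg hu0 hv0 (hW.1 hu) (hW.1 hv) huv
  have := K660.Compare.finite_L hK (n₁ • D)
  obtain ⟨m, b, hb, hb0, hbV⟩ := exists_common_denominator_fg hbir hu hu0 (L (n₁ • D)) n₁
  refine ⟨m, n₁, b, hb, hb0, fun n hn z hz => ?_⟩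
  obtain ⟨j, rfl⟩ : ∃ j, n = n₁ + j := ⟨n - n₁, by omega⟩
  have hle : Submodule.span k ({u, v} : Set K) ≤ W := by
    rw [Submodule.span_le]
    rintro x (rfl | rfl)
    · exact hu
    · exact hv
  have h1 : Submodule.span k {b} * L (n₁ • D) ≤ W ^ (m + n₁) := by
    rw [Submodule.mul_le]
    intro x hx y hy
    obtain ⟨c, rfl⟩ := Submodule.mem_span_singleton.mp hx
    rw [smul_mul_assoc]
    exact Submodule.smul_mem _ c (hbV y hy)
  have h2 : Submodule.span k {b} * L ((n₁ + j) • D) ≤ W ^ (m + (n₁ + j)) := by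
    calc Submodule.span k {b} * L ((n₁ + j) • D)
        ≤ Submodule.span k {b} * ((Submodule.span k {u, v}) ^ j * L (n₁ • D)) :=
          mul_le_mul' le_rfl (exists_pow_mul hn₁ n₁ le_rfl j)
      _ = (Submodule.span k {u, v}) ^ j * (Submodule.span k {b} * L (n₁ • D)) := by
          rw [mul_left_comm]
      _ ≤ W ^ j * W ^ (m + n₁) := mul_le_mul' (pow_le_pow_left' hle j) h1
      _ = W ^ (m + (n₁ + j)) := by rw [← pow_add]; congr 1; ring
  exact h2 (Submodule.mul_mem_mul (Submodule.mem_span_singleton_self b) hz)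

end K664
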