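import Groth.Agent.FunFld.K664.WeakApprox
import Groth.Agent.FunFld.K660.Places
import Groth.Agent.FunFld.K666.Basic
import Groth.Prelude.Def_W4bk4goldsch45
import Mathlib.LinearAlgebra.Dimension.Constructions
import Mathlib.LinearAlgebra.FiniteDimensional.Lemmas

/-! Toolkit on divisors, degrees and the spaces `L(D)` (helper664). -/

set_option autoImplicit false

open WithZero

namespace K664

open FunFld

variable {k K : Type*} [Field k] [Field K] [Algebra k K]

section deg

theorem deg_eq_degHom (D : Divisor k K) : D.deg = degHom k K D := by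
  simp [Divisor.deg, degHom, Finsupp.sum]

theorem deg_add (D E : Divisor k K) : Divisor.deg (D + E) = D.deg + E.deg := by
  simp only [deg_eq_degHom, map_add]

theorem deg_sub (D E : Divisor k K) : Divisor.deg (D - E) = D.deg - E.deg := by
  simp only [deg_eq_degHom, map_sub]

theorem deg_neg (D : Divisor k K) : Divisor.deg (-D) = -D.deg := by
  simp only [deg_eq_degHom, map_neg]

@[simp] theorem deg_zero : Divisor.deg (0 : Divisor k K) = 0 := by
  simp only [deg_eq_degHom, map_zero]

theorem deg_nsmul (n : ℕ) (D : Divisor k K) : Divisor.deg (n • D) = n * D.deg := by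
  simp only [deg_eq_degHom, map_nsmul, nsmul_eq_mul]

theorem deg_zsmul (n : ℤ) (D : Divisor k K) : Divisor.deg (n • D) = n * D.deg := by
  simp only [deg_eq_degHom, map_zsmul, smul_eq_mul]

theorem deg_single (P : Place k K) (n : ℤ) :
    Divisor.deg (Finsupp.single P n) = n * P.deg := by
  simp [Divisor.deg]

theorem deg_nonneg {D : Divisor k K} (h : 0 ≤ D) : 0 ≤ D.deg := by
  unfold Divisor.deg Finsupp.sum
  exact Finset.sum_nonneg fun P _ => mul_nonneg (h P) (Nat.cast_nonneg _)

theorem deg_mono {D E : Divisor k K} (h : D ≤ E) : D.deg ≤ E.deg := by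
  have := deg_nonneg (sub_nonneg.mpr h)
  rw [deg_sub] at this; omega

end deg

section div

theorem finite_support_ord (hK : IsFunctionField k K) (x : K) :
    (Function.support fun P : Place k K => P.ord x).Finite := by
  refine ((K660.Places.finite_pole hK x).union (K660.Places.finite_pole hK x⁻¹)).subset ?_
  intro P hP
  rw [Function.mem_support] at hP
  rcases lt_or_gt_of_ne hP with h | h
  · left
    simp only [Set.mem_ofPred_eq, not_le]
    exact (one_lt_val_iff_ord_neg P).mpr h
  · right
    simp only [Set.mem_ofPred_eq, not_le]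
    apply (one_lt_val_iff_ord_neg P).mpr
    rw [ord_inv]; omega

theorem div_apply (hK : IsFunctionField k K) (x : K) (P : Place k K) :
    FunFld.div k x P = P.ord x := by
  unfold FunFld.div
  rw [dif_pos (finite_support_ord hK x)]
  rfl

theorem div_mul (hK : IsFunctionField k K) {x y : K} (hx : x ≠ 0) (hy : y ≠ 0) :
    FunFld.div k (x * y) = FunFld.div k x + FunFld.div k y := by
  ext P
  simp only [Finsupp.add_apply, div_apply hK, ord_mul P hx hy]

theorem div_inv (hK : IsFunctionField k K) (x : K) :
    FunFld.div k x⁻¹ = - FunFld.div k x := by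
  ext P
  simp only [Finsupp.neg_apply, div_apply hK, ord_inv]

end div

section L

theorem mem_L {D : Divisor k K} {x : K} : x ∈ L D ↔ ∀ P : Place k K, P.1 x ≤ exp (D P) := Iff.rfl

theorem mem_L_iff_ord {D : Divisor k K} {x : K} (hx : x ≠ 0) :
    x ∈ L D ↔ ∀ P : Place k K, 0 ≤ P.ord x + D P := by
  rw [mem_L]
  refine forall_congr' fun P => ?_
  rw [val_le_exp_iff P hx]; omega

theorem L_mono {D E : Divisor k K} (h : D ≤ E) : L D ≤ L E := by
  intro x hx P
  exact (hx P).trans (by rw [exp_le_exp]; exact h P)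

theorem mul_mem_L {D E : Divisor k K} {x y : K} (hx : x ∈ L D) (hy : y ∈ L E) :
    x * y ∈ L (D + E) := by
  intro P
  rw [map_mul, Finsupp.add_apply, exp_add]
  exact mul_le_mul' (hx P) (hy P)

theorem one_mem_L {D : Divisor k K} (h : 0 ≤ D) : (1 : K) ∈ L D := by
  intro P
  rw [map_one, ← exp_zero, exp_le_exp]; exact h P

theorem pow_mem_L {D : Divisor k K} {x : K} (hx : x ∈ L D) (n : ℕ) : x ^ n ∈ L (n • D) := by
  induction n with
  | zero => simp only [pow_zero, zero_smul]; exact one_mem_L le_rfl
  | succ n ih => rw [pow_succ, succ_nsmul]; exact mul_mem_L ih hx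

/-- multiplication by `f` is a bijection `L(D) → L(D - div f)`. -/
theorem mul_mem_L_iff (hK : IsFunctionField k K) {D : Divisor k K} {f x : K} (hf : f ≠ 0) :
    f * x ∈ L (D - FunFld.div k f) ↔ x ∈ L D := by
  simp only [mem_L]
  refine forall_congr' fun P => ?_
  rw [Finsupp.sub_apply, div_apply hK, map_mul, val_eq_exp P hf]
  rw [sub_eq_neg_add, exp_add]
  constructor
  · intro h
    exact le_of_mul_le_mul_left h (by simp)
  · intro h
    exact mul_le_mul' le_rfl h

end L

section algClosed

variable [IsAlgClosed k] (hK : IsFunctionField k K)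

include hK

theorem deg_place (P : Place k K) : P.deg = 1 := by
  unfold Place.deg
  rw [finrank_eq_one_iff']
  refine ⟨1, one_ne_zero, fun w => ?_⟩
  obtain ⟨z, rfl⟩ := IsLocalRing.residue_surjective w
  obtain ⟨c, hc⟩ := K666.Basic.exists_const hK P (z : K) z.2
  refine ⟨c, ?_⟩
  change IsLocalRing.residue P.O (c • (1 : P.O)) = _
  rw [Algebra.smul_def, mul_one, ← sub_eq_zero, ← map_sub, IsLocalRing.residue_eq_zero_iff,
    ← neg_mem_iff, neg_sub]
  exact (Valuation.mem_maximalIdeal_iff (v := P.1)).mpr hc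

/-- Leading coefficients at a place. -/
theorem exists_smul_sub_le (P : Place k K) {n : ℤ} {v w : K} (hv : P.1 v = exp n)
    (hw : P.1 w ≤ exp n) : ∃ c : k, P.1 (w - c • v) ≤ exp (n - 1) := by
  have hv0 : v ≠ 0 := ((val_eq_exp_iff P).mp hv).1
  have h1 : P.1 (w / v) ≤ 1 := by
    rw [map_div₀, hv]
    rw [div_le_one₀ (by simp)]; exact hw
  obtain ⟨c, hc⟩ := K666.Basic.exists_const hK P (w / v) h1
  refine ⟨c, ?_⟩
  have h2 : w - c • v = (w / v - algebraMap k K c) * v := by
    rw [sub_mul, div_mul_cancel₀ _ hv0, Algebra.smul_def]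
  rw [h2, map_mul, hv]
  have h3 : P.1 (w / v - algebraMap k K c) ≤ exp (-1) := by
    by_cases h0 : w / v - algebraMap k K c = 0
    · rw [h0, map_zero]; exact zero_le
    · rw [val_lt_one_iff P h0] at hc
      rw [val_le_exp_iff P h0]; omega
  calc P.1 (w / v - algebraMap k K c) * exp n ≤ exp (-1) * exp n := mul_le_mul' h3 le_rfl
    _ = exp (n - 1) := by rw [← exp_add]; congr 1; ring

/-- Dropping a point: if some `v₀ ∈ V ≤ L(E)` has exact order `-E(P)` at `P`, then
`V ⊓ L(E - P)` has codimension one in `V`. -/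
theorem finrank_inf_L_sub_single (V : Submodule k K) [FiniteDimensional k V] (E : Divisor k K)
    (hV : V ≤ L E) (P : Place k K) {v₀ : K} (hv₀ : v₀ ∈ V) (h₀ : P.1 v₀ = exp (E P)) :
    Module.finrank k ↥(V ⊓ L (E - Finsupp.single P 1)) + 1 = Module.finrank k V := by
  classical
  have hv0 : v₀ ≠ 0 := ((val_eq_exp_iff P).mp h₀).1
  have hsup : (V ⊓ L (E - Finsupp.single P 1)) ⊔ Submodule.span k {v₀} = V := by
    apply le_antisymm
    · refine sup_le inf_le_left ?_
      rw [Submodule.span_singleton_le_iff_mem]; exact hv₀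
    · intro w hw
      obtain ⟨c, hc⟩ := exists_smul_sub_le hK P h₀ (hV hw P)
      rw [Submodule.mem_sup]
      refine ⟨w - c • v₀, ⟨V.sub_mem hw (V.smul_mem c hv₀), fun Q => ?_⟩, c • v₀,
        Submodule.smul_mem _ _ (Submodule.mem_span_singleton_self _), by abel⟩
      by_cases hQ : Q = P
      · subst hQ
        simpa using hc
      · have : ((E - Finsupp.single P 1 : Divisor k K) : Place k K → ℤ) Q = E Q := by
          simp [Finsupp.single_apply, Ne.symm hQ]
        rw [this]
        exact (L E).sub_mem (hV hw) ((L E).smul_mem c (hV hv₀)) Q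
  have hinf : (V ⊓ L (E - Finsupp.single P 1)) ⊓ Submodule.span k {v₀} = ⊥ := by
    rw [Submodule.eq_bot_iff]
    rintro w ⟨⟨-, hw1⟩, hw2⟩
    obtain ⟨c, rfl⟩ := Submodule.mem_span_singleton.mp hw2
    by_contra hne
    have hc : c ≠ 0 := by rintro rfl; simp at hne
    have := hw1 P
    rw [val_smul P hc, h₀, exp_le_exp] at this
    simp at this
  have := Submodule.finrank_sup_add_finrank_inf_eq (V ⊓ L (E - Finsupp.single P 1))
    (Submodule.span k {v₀})
  rw [hsup, hinf, finrank_bot, add_zero, finrank_span_singleton hv0] at this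
  exact this.symm

end algClosed

end K664
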