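import Groth.Agent.FunFld.K664.Codim
import Groth.Agent.FunFld.K661.OverFF

/-! A linear system separating points and tangent directions is birational onto its image, hence an
embedding (helper664). -/

set_option autoImplicit false

open WithZero

namespace K664

open FunFld K660.Places

section sub

variable {k K : Type*} [Field k] [Field K] [Algebra k K]

/-- An intermediate field containing a generator `t` is finite over `k(t)`. -/
theorem isGen_intermediate {t : K} (ht : IsGen k K t) (F : IntermediateField k K) (hF : t ∈ F) :
    IsGen k F ⟨t, hF⟩ := by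
  refine ⟨?_, ?_⟩
  · intro h
    exact ht.tr ((isAlgebraic_algebraMap_iff (algebraMap F K).injective).mpr h)
  · set E := IntermediateField.adjoin k {(⟨t, hF⟩ : F)} with hE
    have hmap : E.map F.val = IntermediateField.adjoin k {t} := by
      rw [hE, IntermediateField.adjoin_map]; simp
    have hfin : Module.Finite E K := by
      have := ht.fin
      obtain ⟨s, hs⟩ := Module.finite_def.1 ht.fin
      refine Module.finite_def.2 ⟨s, ?_⟩
      rw [eq_top_iff]
      intro x _
      have hx : x ∈ Submodule.span (IntermediateField.adjoin k {t}) (s : Set K) := by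
        rw [hs]; exact Submodule.mem_top
      induction hx using Submodule.span_induction with
      | mem x hx => exact Submodule.subset_span hx
      | zero => exact Submodule.zero_mem _
      | add x y _ _ hx hy => exact Submodule.add_mem _ (hx Submodule.mem_top) (hy Submodule.mem_top)
      | smul a x _ hx =>
        have ha : (a : K) ∈ E.map F.val := by rw [hmap]; exact a.2
        obtain ⟨b, hb, hba⟩ := ha
        have h5 : a • x = (⟨b, hb⟩ : E) • x := by
          rw [Algebra.smul_def, Algebra.smul_def]
          change (a : K) * x = (b : K) * x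
          rw [← hba]; rfl
        rw [h5]
        exact Submodule.smul_mem _ _ (hx Submodule.mem_top)
    exact FiniteDimensional.of_injective (IsScalarTower.toAlgHom E F K).toLinearMap
      (algebraMap F K).injective

/-- `K` is finite over an intermediate field containing a generator. -/
theorem finite_over_intermediate {t : K} (ht : IsGen k K t) (F : IntermediateField k K)
    (hF : t ∈ F) : FiniteDimensional F K := by
  have hle : IntermediateField.adjoin k {t} ≤ F := by
    rw [IntermediateField.adjoin_simple_le_iff]; exact hF
  have := ht.fin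
  let _ : Algebra (IntermediateField.adjoin k {t}) F :=
    (IntermediateField.inclusion hle).toRingHom.toAlgebra
  have : IsScalarTower (IntermediateField.adjoin k {t}) F K :=
    IsScalarTower.of_algebraMap_eq fun x => rfl
  exact Module.Finite.of_restrictScalars_finite (IntermediateField.adjoin k {t}) F K

end sub

section

variable {k K : Type*} [Field k] [Field K] [Algebra k K] [IsAlgClosed k]
variable {W : Submodule k K} {D : Divisor k K}

/-- A linear system separating points and tangent directions everywhere is birational. -/
theorem ratioField_eq_top (hK : IsFunctionField k K) (hW : BPF W D)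
    (htan : ∀ P : Place k K, ∃ w ∈ W, P.1 w = exp (D P - 1))
    (hsep : ∀ P Q : Place k K, Q ≠ P → ∃ w ∈ W, P.1 w = exp (D P) ∧ Q.1 w < exp (D Q)) :
    ratioField W = ⊤ := by
  classical
  obtain ⟨P⟩ := nonempty_place hK
  obtain ⟨u, hu, huP⟩ := hW.2 P
  obtain ⟨w, hw, hwP⟩ := htan P
  have htF : w / u ∈ ratioField W := div_mem_ratioField hw hu
  have htP : P.1 (w / u) = exp (-1) := by
    rw [map_div₀, hwP, huP, ← exp_sub]; congr 1; ring
  have htr : Transcendental k (w / u) := by
    apply transcendental_of_notMem hK
    rintro ⟨c, hc⟩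
    rw [← hc] at htP
    by_cases hc0 : c = 0
    · rw [hc0, map_zero, map_zero] at htP; exact exp_ne_zero htP.symm
    · rw [val_algebraMap P hc0, ← exp_zero, exp_inj] at htP; omega
  have hgen := isGen_of_transcendental hK htr
  have hgenF := isGen_intermediate hgen (ratioField W) htF
  have hfin := finite_over_intermediate hgen (ratioField W) htF
  obtain ⟨P₀, hP₀⟩ := K661.Place.exists_below (k := k) (K := ratioField W) P
  -- ramification index one
  have hram : ramIdx P P₀ = 1 := by
    have h1 := K661.Place.ord_algebraMap hP₀ ⟨w / u, htF⟩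
    have h2 : P.ord (algebraMap (ratioField W) K ⟨w / u, htF⟩) = 1 := by
      change P.ord (w / u) = 1
      rw [((val_eq_exp_iff P).mp htP).2]; norm_num
    rw [h2] at h1
    have h3 : (ramIdx P P₀ : ℤ) = 1 := by
      refine Int.eq_one_of_mul_eq_one_right (by positivity) h1.symm
    exact_mod_cast h3
  -- uniqueness
  have huniq : ∀ Q : Place k K, IsOver Q P₀ → Q = P := by
    intro Q hQ
    by_contra hne
    obtain ⟨w, hw, hwP, hwQ⟩ := hsep P Q hne
    obtain ⟨w', hw', -, hw'2⟩ := hW.exists_exact {P, Q} (by simp) ⊥ (by
      rw [le_bot_iff]; exact hW.ne_bot hK)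
    have h1 := hw'2 P (by simp)
    have h2 := hw'2 Q (by simp)
    have hF : w / w' ∈ ratioField W := div_mem_ratioField hw hw'
    have h3 : Q.1 (w / w') < 1 := by
      rw [map_div₀, h2, div_lt_one₀ (by simp)]; exact hwQ
    have h4 : P.1 (w / w') = 1 := by
      rw [map_div₀, hwP, h1, div_self exp_ne_zero]
    have h5 := (K661.Place.val_algebraMap_lt_one_iff hQ ⟨w / w', hF⟩).mp h3
    have h6 := (K661.Place.val_algebraMap_lt_one_iff hP₀ ⟨w / w', hF⟩).mpr h5
    change P.1 (w / w') < 1 at h6
    rw [h4] at h6
    exact lt_irrefl _ h6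
  have hsum := K661.OverFF.sum_ramIdx_mul_deg (k := k) (K := ratioField W) (K' := K)
    ⟨_, hgenF⟩ P₀ {P} (by
      intro Q
      rw [Finset.mem_singleton]
      exact ⟨fun h => h ▸ hP₀, huniq Q⟩)
  rw [Finset.sum_singleton, hram, deg_place hK, one_mul] at hsum
  have hone : Module.finrank (ratioField W) K = 1 := Nat.eq_one_of_mul_eq_one_right hsum.symm
  exact IntermediateField.finrank_eq_one_iff_eq_top.mp hone

theorem exists_ratio_of_codim_two (hK : IsFunctionField k K) (hW : BPF W D)
    [FiniteDimensional k W]
    (h : ∀ P Q : Place k K,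
        Module.finrank k ↥(W ⊓ L (D - Finsupp.single P 1 - Finsupp.single Q 1)) + 2 =
          Module.finrank k W) (z : K) :
    ∃ n : ℕ, ∃ a ∈ W ^ n, ∃ b ∈ W ^ n, b ≠ 0 ∧ z * b = a := by
  have hdrop : ∀ P : Place k K,
      Module.finrank k ↥(W ⊓ L (D - Finsupp.single P 1)) + 1 = Module.finrank k W := by
    intro P
    obtain ⟨v₀, hv₀, h₀⟩ := hW.2 P
    exact finrank_inf_L_sub_single hK W D hW.1 P hv₀ h₀
  have htop : ratioField W = ⊤ := by
    refine ratioField_eq_top hK hW (fun P => ?_) (fun P Q hQP => ?_)
    · by_contra hcon
      push Not at hcon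
      have h1 : W ⊓ L (D - Finsupp.single P 1) ≤
          L (D - Finsupp.single P 1 - Finsupp.single P 1) := by
        rintro w ⟨hw, hw'⟩
        refine mem_L_sub_single hw' (lt_of_le_of_ne (hw' P) ?_)
        rw [sub_single_apply_self]; exact hcon w hw
      have h2 := h P P
      rw [← inf_L_sub_sub, inf_eq_left.mpr h1] at h2
      have h3 := hdrop P
      omega
    · by_contra hcon
      push Not at hcon
      have h1 : W ⊓ L (D - Finsupp.single Q 1) ≤
          L (D - Finsupp.single Q 1 - Finsupp.single P 1) := by
        rintro w ⟨hw, hw'⟩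
        have h2 := lt_of_mem_L_sub_single hw'
        refine mem_L_sub_single hw' (lt_of_le_of_ne (hw' P) ?_)
        rw [sub_single_apply_ne D (Ne.symm hQP)]
        intro h3
        exact absurd (hcon w hw h3) (not_le.mpr h2)
      have h2 := h P Q
      rw [sub_right_comm, ← inf_L_sub_sub, inf_eq_left.mpr h1] at h2
      have h3 := hdrop Q
      omega
  have hz : z ∈ ratioField W := by rw [htop]; exact IntermediateField.mem_top
  exact hz

/-- Embedding criterion: a complete linear system `L(D)` with `ℓ(D - P - Q) = ℓ(D) - 2` for all `P, Q`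
is nonsingular everywhere. -/
theorem isNonsingularAt_of_ell (hK : IsFunctionField k K)
    (hD : ∀ P : Place k K, ell (D - Finsupp.single P 1) + 1 = ell D)
    (hD2 : ∀ P Q : Place k K, ell (D - Finsupp.single P 1 - Finsupp.single Q 1) + 2 = ell D)
    {n : ℕ} (φ : Fin (n + 1) → K) (hφ : LinearIndependent k φ)
    (hspan : Submodule.span k (Set.range φ) = L D) (P : Place k K) : IsNonsingularAt φ P := by
  have := K660.Compare.finite_L hK D
  have hbpf : BPF (L D) D := by
    refine ⟨le_rfl, fun P => ?_⟩
    by_contra hcon
    push Not at hcon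
    have h1 : L D ≤ L (D - Finsupp.single P 1) := fun w hw =>
      mem_L_sub_single hw (lt_of_le_of_ne (hw P) (hcon w hw))
    have := K660.Compare.finite_L hK (D - Finsupp.single P 1)
    have h2 : ell D ≤ ell (D - Finsupp.single P 1) := Submodule.finrank_mono h1
    have h3 := hD P
    omega
  have hle : ∀ P Q : Place k K, L (D - Finsupp.single P 1 - Finsupp.single Q 1) ≤ L D := by
    intro P Q
    apply L_mono
    rw [sub_sub, sub_le_self_iff]
    exact add_nonneg (Finsupp.single_nonneg.mpr zero_le_one) (Finsupp.single_nonneg.mpr zero_le_one)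
  have hcod : ∀ P Q : Place k K,
        Module.finrank k ↥(L D ⊓ L (D - Finsupp.single P 1 - Finsupp.single Q 1)) + 2 =
          Module.finrank k (L D) := by
    intro P Q
    rw [inf_eq_right.mpr (hle P Q)]
    exact hD2 P Q
  have hbir := exists_ratio_of_codim_two hK hbpf hcod
  have h1 := (ratio_iff_codim_two hK hbpf hbir P).mpr (hcod P)
  intro z hz
  have hbpf' : BPF (Submodule.span k (Set.range φ)) D := by rw [hspan]; exact hbpf
  rw [inLocRing_iff hbpf' P z, hspan]
  exact h1 z hz

end

end K664
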