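import Groth.Agent.FunFld.K664.Embed
import Groth.Agent.FunFld.K659.DegZeros

/-! Embeddings by complete linear systems: `deg D ≥ 2g + 1`, and the canonical system when there is no
function of degree two (helper664). -/

set_option autoImplicit false

open WithZero

namespace K664

open FunFld K660.Places

variable {k K : Type*} [Field k] [Field K] [Algebra k K] [IsAlgClosed k]

theorem isNonsingularAt_of_deg_ge (hK : IsFunctionField k K) {D : Divisor k K}
    (hD : 2 * (genus k K : ℤ) + 1 ≤ D.deg) {n : ℕ} (φ : Fin (n + 1) → K)
    (hφ : LinearIndependent k φ) (hspan : Submodule.span k (Set.range φ) = L D)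
    (P : Place k K) : IsNonsingularAt φ P := by
  have h0 := K660.Weil.ell_eq_of_deg_ge hK (D := D) (by omega)
  refine isNonsingularAt_of_ell hK (fun P => ?_) (fun P Q => ?_) φ hφ hspan P
  · have h1 : Divisor.deg (D - Finsupp.single P 1) = D.deg - 1 := by
      rw [deg_sub, deg_single, deg_place hK]; simp
    have h2 := K660.Weil.ell_eq_of_deg_ge hK (D := D - Finsupp.single P 1) (by omega)
    omega
  · have h1 : Divisor.deg (D - Finsupp.single P 1 - Finsupp.single Q 1) = D.deg - 2 := by
      rw [deg_sub, deg_sub, deg_single, deg_single, deg_place hK, deg_place hK]; push_cast; ring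
    have h2 := K660.Weil.ell_eq_of_deg_ge hK
      (D := D - Finsupp.single P 1 - Finsupp.single Q 1) (by omega)
    omega

/-- If no nonconstant function has degree `≤ 2` then `ℓ(P + Q) = 1`. -/
theorem ell_two_points (hK : IsFunctionField k K)
    (h2 : ∀ x : K, Transcendental k x →
      2 < Module.finrank (IntermediateField.adjoin k ({x} : Set K)) K) (P Q : Place k K) :
    ell (Finsupp.single P 1 + Finsupp.single Q 1 : Divisor k K) ≤ 1 := by
  have hPQ0 : (0 : Divisor k K) ≤ Finsupp.single P 1 + Finsupp.single Q 1 :=
    add_nonneg (Finsupp.single_nonneg.mpr zero_le_one) (Finsupp.single_nonneg.mpr zero_le_one)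
  have hle : L (Finsupp.single P 1 + Finsupp.single Q 1 : Divisor k K) ≤ 1 := by
    intro x hx
    by_contra hcon
    have hnot : x ∉ Set.range (algebraMap k K) := by
      rintro ⟨c, rfl⟩
      exact hcon (Submodule.algebraMap_mem c)
    have hx0 : x ≠ 0 := by
      rintro rfl; exact hnot ⟨0, map_zero _⟩
    have htr := transcendental_of_notMem hK hnot
    have hgen := (isGen_of_transcendental hK htr).inv
    have h3 := h2 x⁻¹ hgen.tr
    have h4 := K659.DegZeros.finrank_le_deg_zdiv hK hgen.tr
    have h5 : K659.DegZeros.zdiv k x⁻¹ ≤ (Finsupp.single P 1 + Finsupp.single Q 1 : Divisor k K) := by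
      intro R
      rw [K659.DegZeros.zdiv_apply hK, ord_inv]
      have h6 := (mem_L_iff_ord hx0).mp hx R
      have h7 := hPQ0 R
      rw [Finsupp.coe_zero, Pi.zero_apply] at h7
      omega
    have h6 := deg_mono h5
    rw [deg_add, deg_single, deg_single, deg_place hK, deg_place hK] at h6
    push_cast at h6
    omega
  have : FiniteDimensional k (1 : Submodule k K) := by
    rw [← K660.Compare.L_zero hK]; exact K660.Compare.finite_L hK 0
  calc ell (Finsupp.single P 1 + Finsupp.single Q 1 : Divisor k K)
      ≤ Module.finrank k (1 : Submodule k K) := Submodule.finrank_mono hle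
    _ = ell (0 : Divisor k K) := by rw [ell, K660.Compare.L_zero hK]
    _ = 1 := K660.Compare.ell_zero hK

theorem isNonsingularAt_of_canonical (hK : IsFunctionField k K)
    (h2 : ∀ x : K, Transcendental k x →
      2 < Module.finrank (IntermediateField.adjoin k ({x} : Set K)) K)
    {D : Divisor k K} (hD : IsCanonical k K D) {n : ℕ} (φ : Fin (n + 1) → K)
    (hφ : LinearIndependent k φ) (hspan : Submodule.span k (Set.range φ) = L D)
    (P : Place k K) : IsNonsingularAt φ P := by
  obtain ⟨hell, hdeg⟩ := (K660.Weil.isCanonical_iff hK D).mp hD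
  have hPQ : ∀ P Q : Place k K, ell (Finsupp.single P 1 + Finsupp.single Q 1 : Divisor k K) = 1 ∧
      ell (Finsupp.single P 1 : Divisor k K) = 1 := by
    intro P Q
    have h3 := ell_two_points hK h2 P Q
    have h4 : ell (0 : Divisor k K) ≤ ell (Finsupp.single P 1 : Divisor k K) := by
      have := K660.Compare.finite_L hK (Finsupp.single P 1 : Divisor k K)
      exact Submodule.finrank_mono (L_mono (Finsupp.single_nonneg.mpr zero_le_one))
    have h5 : ell (Finsupp.single P 1 : Divisor k K) ≤
        ell (Finsupp.single P 1 + Finsupp.single Q 1 : Divisor k K) := by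
      have := K660.Compare.finite_L hK (Finsupp.single P 1 + Finsupp.single Q 1 : Divisor k K)
      refine Submodule.finrank_mono (L_mono ?_)
      rw [le_add_iff_nonneg_right]
      exact Finsupp.single_nonneg.mpr zero_le_one
    rw [K660.Compare.ell_zero hK] at h4
    omega
  refine isNonsingularAt_of_ell hK (fun P => ?_) (fun P Q => ?_) φ hφ hspan P
  · have h3 := K660.Weil.riemann_roch hK hD (Finsupp.single P 1 : Divisor k K)
    rw [deg_single, deg_place hK, (hPQ P P).2] at h3
    push_cast at h3
    omega
  · have h3 := K660.Weil.riemann_roch hK hD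
      (Finsupp.single P 1 + Finsupp.single Q 1 : Divisor k K)
    rw [deg_add, deg_single, deg_single, deg_place hK, deg_place hK, (hPQ P Q).1, ← sub_sub] at h3
    push_cast at h3
    omega

end K664
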