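import Groth.Agent.FunFld.K664.Embed
import Groth.Agent.S11020
import Mathlib.FieldTheory.PrimitiveElement

/-! A second generator which is a local parameter at prescribed places (helper664). -/

set_option autoImplicit false

open WithZero

namespace K664

open FunFld K660.Places

variable {k K : Type*} [Field k] [Field K] [Algebra k K]

theorem exists_pow_val_prod (P : Place k K) {x : K} {c : k} (h : P.1 (x - algebraMap k K c) < 1)
    (s : Multiset k) :
    ∃ m : ℕ, P.1 ((s.map fun a => x - algebraMap k K a).prod) = P.1 (x - algebraMap k K c) ^ m := by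
  classical
  induction s using Multiset.induction_on with
  | empty => exact ⟨0, by simp⟩
  | cons a s ih =>
    obtain ⟨m, hm⟩ := ih
    by_cases hac : a = c
    · subst hac
      refine ⟨m + 1, ?_⟩
      rw [Multiset.map_cons, Multiset.prod_cons, map_mul, hm, pow_succ']
    · refine ⟨m, ?_⟩
      rw [Multiset.map_cons, Multiset.prod_cons, map_mul, hm]
      have h1 : P.1 (x - algebraMap k K a) = 1 := by
        have h2 : x - algebraMap k K a = (x - algebraMap k K c) + algebraMap k K (c - a) := by
          rw [map_sub]; ring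
        have h3 : P.1 (algebraMap k K (c - a)) = 1 :=
          val_algebraMap P (sub_ne_zero.mpr (Ne.symm hac))
        rw [h2, val_add_eq_of_lt P, h3]
        rw [h3]; exact h
      rw [h1, one_mul]

variable [IsAlgClosed k]

theorem exists_pow_val_aeval (P : Place k K) {x : K} {c : k}
    (h : P.1 (x - algebraMap k K c) < 1) {p : Polynomial k} (hp : p ≠ 0) :
    ∃ m : ℕ, P.1 (Polynomial.aeval x p) = P.1 (x - algebraMap k K c) ^ m := by
  obtain ⟨m, hm⟩ := exists_pow_val_prod P h p.roots
  refine ⟨m, ?_⟩
  rw [← hm]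
  conv_lhs => rw [(IsAlgClosed.splits p).eq_prod_roots]
  rw [map_mul, Polynomial.aeval_C, map_mul, val_algebraMap P
    (by rw [Ne, Polynomial.leadingCoeff_eq_zero]; exact hp), one_mul]
  congr 1
  rw [map_multiset_prod, Multiset.map_map]
  congr 1
  apply Multiset.map_congr rfl
  intro a _
  simp

/-- If the restriction of `P` to `k(x)` is surjective and `x(P) = c` then `x - c` is a local
parameter at `P`. -/
theorem val_sub_const_eq (P : Place k K) {x : K} {c : k}
    (h : P.1 (x - algebraMap k K c) < 1)
    (hs : Function.Surjective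
      (P.1.comap (algebraMap (IntermediateField.adjoin k ({x} : Set K)) K))) :
    P.1 (x - algebraMap k K c) = exp (-1) := by
  obtain ⟨⟨f, hf⟩, hfv⟩ := hs (exp (-1))
  have hfv' : P.1 f = exp (-1) := hfv
  obtain ⟨r, s, hrs⟩ := (IntermediateField.mem_adjoin_simple_iff k f).mp hf
  have hf0 : f ≠ 0 := ((val_eq_exp_iff P).mp hfv').1
  have hs0 : s ≠ 0 := by
    rintro rfl
    rw [map_zero, div_zero] at hrs
    exact hf0 hrs
  have hr0 : r ≠ 0 := by
    rintro rfl
    rw [map_zero, zero_div] at hrs
    exact hf0 hrs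
  obtain ⟨m, hm⟩ := exists_pow_val_aeval P h hr0
  obtain ⟨m', hm'⟩ := exists_pow_val_aeval P h hs0
  have hx0 : x - algebraMap k K c ≠ 0 := by
    intro h0
    rw [hrs, map_div₀, hm, hm', h0, map_zero] at hfv'
    rcases m with _ | m
    · rcases m' with _ | m'
      · rw [pow_zero, div_one, ← exp_zero, exp_inj] at hfv'; omega
      · rw [zero_pow (Nat.succ_ne_zero m'), div_zero] at hfv'; exact exp_ne_zero hfv'.symm
    · rw [zero_pow (Nat.succ_ne_zero m), zero_div] at hfv'; exact exp_ne_zero hfv'.symm
  have h1 : P.ord f = (m - m' : ℤ) * P.ord (x - algebraMap k K c) := by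
    have h2 : P.1 f = P.1 ((x - algebraMap k K c) ^ ((m : ℤ) - m')) := by
      rw [hrs, map_div₀, hm, hm', map_zpow₀, zpow_sub₀ (val_ne_zero P hx0), zpow_natCast,
        zpow_natCast]
    rw [← ord_zpow]
    unfold Place.ord
    rw [h2]
  have h3 : P.ord f = 1 := by rw [((val_eq_exp_iff P).mp hfv').2]; norm_num
  rw [h3] at h1
  have h4 : 0 < P.ord (x - algebraMap k K c) := (val_lt_one_iff P hx0).mp h
  have h5 : P.ord (x - algebraMap k K c) = 1 :=
    Int.eq_one_of_mul_eq_one_left h4.le h1.symm
  rw [val_eq_exp P hx0, h5]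

theorem exists_generator (hK : IsFunctionField k K) (x : K)
    (hsep : Algebra.IsSeparable (IntermediateField.adjoin k ({x} : Set K)) K) :
    ∃ y : K, IntermediateField.adjoin k ({x, y} : Set K) = ⊤ ∧
      ∀ P : Place k K, ∃ f ∈ Submodule.span k ({1, x, y} : Set K), P.1 f = exp (-1) := by
  classical
  set F := IntermediateField.adjoin k ({x} : Set K) with hF
  -- `x` is transcendental
  have hx : Transcendental k x := by
    intro halg
    obtain ⟨t, ht⟩ := exists_isGen hK
    apply ht.tr
    have h1 : Algebra.IsAlgebraic k F := IntermediateField.isAlgebraic_adjoin_simple halg.isIntegral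
    have h2 : Algebra.IsAlgebraic F K := Algebra.IsSeparable.isAlgebraic F K
    exact (Algebra.IsAlgebraic.trans k F K).isAlgebraic t
  have hgen := isGen_of_transcendental hK hx
  have hfin : FiniteDimensional F K := hgen.fin
  have hxF : x ∈ F := IntermediateField.mem_adjoin_simple_self k x
  have hFF : IsFunctionField k F := by
    refine ⟨⟨_, (isGen_intermediate hgen F hxF).tr, (isGen_intermediate hgen F hxF).fin⟩,
      fun y hy => ?_⟩
    obtain ⟨c, hc⟩ := hK.2 (y : K) (hy.algebraMap (A := K))
    exact ⟨c, Subtype.ext hc⟩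
  -- the finite set of bad places
  have hram := Groth.Agent.S11020.result k F K hFF
  have hpole := finite_pole hK x
  obtain ⟨S, hS⟩ := (hram.union hpole).exists_finset_coe
  have hS' : ∀ P : Place k K, P ∉ S → Function.Surjective (P.1.comap (algebraMap F K)) ∧
      P.1 x ≤ 1 := by
    intro P hP
    have h1 : P ∉ (S : Set (Place k K)) := hP
    rw [hS, Set.mem_union, not_or] at h1
    exact ⟨not_not.mp h1.1, not_not.mp h1.2⟩
  -- a primitive element
  obtain ⟨z₀, hz₀⟩ := Field.exists_primitive_element F K
  -- local parameters on `S`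
  obtain ⟨y₀, hy₀⟩ := weak_approx_eq S (fun _ => 0) (fun _ => 1)
  -- an element of `F` small on `S`
  choose res hres using fun P : Place k K => K661.Place.exists_below (k := k) (K := F) P
  obtain ⟨N, hN⟩ : ∃ N : ℕ, ∀ P ∈ S, 2 - P.ord z₀ ≤ N := by
    refine ⟨∑ P ∈ S, (2 - P.ord z₀).natAbs, fun P hP => ?_⟩
    have h1 : (2 - P.ord z₀).natAbs ≤ ∑ P ∈ S, (2 - P.ord z₀).natAbs :=
      Finset.single_le_sum (f := fun P : Place k K => (2 - P.ord z₀).natAbs)
        (fun _ _ => Nat.zero_le _) hP
    omega
  obtain ⟨u, hu⟩ := weak_approx_eq (k := k) (K := F) (insert (res (nonempty_place hK).some) (S.image res))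
    (fun _ => 0) (fun _ => N)
  have hu0 : u ≠ 0 := by
    have := hu _ (Finset.mem_insert_self _ _)
    rw [sub_zero] at this
    exact ((val_eq_exp_iff _).mp this).1
  have hu0' : (u : K) ≠ 0 := by
    intro h; apply hu0; exact Subtype.ext h
  have huS : ∀ P ∈ S, P.1 (u : K) ≤ exp (-(N : ℤ)) := by
    intro P hP
    have h1 := hu (res P) (Finset.mem_insert_of_mem (Finset.mem_image_of_mem _ hP))
    rw [sub_zero] at h1
    have h2 := K661.Place.ord_algebraMap (hres P) u
    change P.ord (u : K) = _ at h2
    rw [((val_eq_exp_iff _).mp h1).2, neg_neg] at h2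
    rw [val_le_exp_iff P hu0', neg_neg, h2]
    have h3 := K661.Place.ramIdx_pos (hres P)
    have h4 : (1 : ℤ) ≤ ramIdx P (res P) := by exact_mod_cast h3
    have h5 : (0 : ℤ) ≤ N := by positivity
    nlinarith
  set h := (u : K) * z₀ with hh
  have hhS : ∀ P ∈ S, P.1 h ≤ exp (-2) := by
    intro P hP
    by_cases hz0 : z₀ = 0
    · rw [hh, hz0, mul_zero, map_zero]; exact zero_le
    · rw [hh, map_mul]
      calc P.1 (u : K) * P.1 z₀ ≤ exp (-(N : ℤ)) * P.1 z₀ := mul_le_mul' (huS P hP) le_rfl
        _ = exp (-(N : ℤ) - P.ord z₀) := by rw [val_eq_exp P hz0, ← exp_add]; rfl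
        _ ≤ exp (-2) := by rw [exp_le_exp]; have := hN P hP; omega
  -- pigeonhole
  have hfinI : Finite (IntermediateField F K) :=
    (Field.exists_primitive_element_iff_finite_intermediateField F K).mp
      ⟨Algebra.IsSeparable.isAlgebraic F K, z₀, hz₀⟩
  obtain ⟨c, c', hcc', heq'⟩ := Finite.exists_ne_map_eq_of_infinite
    (fun c : k => IntermediateField.adjoin F ({y₀ + c • h} : Set K))
  have heq : IntermediateField.adjoin F ({y₀ + c • h} : Set K) =
    IntermediateField.adjoin F ({y₀ + c' • h} : Set K) := heq'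
  have htop : IntermediateField.adjoin F ({y₀ + c • h} : Set K) = ⊤ := by
    rw [eq_top_iff, ← hz₀, IntermediateField.adjoin_simple_le_iff]
    have h1 : y₀ + c • h ∈ IntermediateField.adjoin F ({y₀ + c • h} : Set K) :=
      IntermediateField.mem_adjoin_simple_self F _
    have h2 : y₀ + c' • h ∈ IntermediateField.adjoin F ({y₀ + c • h} : Set K) := by
      rw [heq]; exact IntermediateField.mem_adjoin_simple_self F _
    have h3 := sub_mem h1 h2
    have h4 : y₀ + c • h - (y₀ + c' • h) = algebraMap F K (algebraMap k F (c - c') * u) * z₀ := by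
      rw [map_mul, ← IsScalarTower.algebraMap_apply, hh, Algebra.smul_def, Algebra.smul_def,
        map_sub]
      change _ = (algebraMap k K c - algebraMap k K c') * (u : K) * z₀
      ring
    rw [h4] at h3
    have h5 : algebraMap F K (algebraMap k F (c - c') * u) ≠ 0 := by
      rw [Ne, map_eq_zero, mul_eq_zero, not_or]
      exact ⟨by rw [map_eq_zero]; exact sub_ne_zero.mpr hcc', hu0⟩
    have h6 := mul_mem (inv_mem (IntermediateField.algebraMap_mem
      (IntermediateField.adjoin F ({y₀ + c • h} : Set K)) (algebraMap k F (c - c') * u))) h3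
    rwa [inv_mul_cancel_left₀ h5] at h6
  refine ⟨y₀ + c • h, ?_, fun P => ?_⟩
  · have h1 := IntermediateField.adjoin_simple_adjoin_simple k x (y₀ + c • h)
    rw [← h1, ← hF, htop]
    exact IntermediateField.restrictScalars_top
  · by_cases hP : P ∈ S
    · refine ⟨y₀ + c • h, Submodule.subset_span (by simp), ?_⟩
      have h1 := hy₀ P hP
      rw [sub_zero] at h1
      rw [val_add_eq_of_gt P, h1]
      rw [h1]
      refine lt_of_le_of_lt ((val_smul_le P c h).trans (hhS P hP)) ?_
      rw [exp_lt_exp]; norm_num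
    · obtain ⟨hsurj, hxP⟩ := hS' P hP
      obtain ⟨a, ha⟩ := K666.Basic.exists_const hK P x hxP
      refine ⟨x - algebraMap k K a, ?_, val_sub_const_eq P ha hsurj⟩
      refine Submodule.sub_mem _ (Submodule.subset_span (by simp)) ?_
      rw [Algebra.algebraMap_eq_smul_one]
      exact Submodule.smul_mem _ a (Submodule.subset_span (by simp))

end K664
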