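import Groth.Agent.FunFld.K664.App
import Mathlib.RingTheory.Valuation.LocalSubring

/-! Global criterion: if the local ring of the map is the valuation ring at every place then
`W^N = L(ND)` for some large `N` (helper664). -/

set_option autoImplicit false

open WithZero

namespace K664

open FunFld

variable {k K : Type*} [Field k] [Field K] [Algebra k K]

section

variable {W : Submodule k K} {D : Divisor k K}

/-- The ring of the affine chart `u ≠ 0`: quotients `a / u^m`, `a ∈ W^m`. -/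
def chartRing (W : Submodule k K) (u : K) (hu : u ∈ W) : Subring K where
  carrier := {z | ∃ n : ℕ, ∀ m ≥ n, z * u ^ m ∈ W ^ m}
  mul_mem' := by
    rintro x y ⟨n, hn⟩ ⟨n', hn'⟩
    refine ⟨n + n', fun m hm => ?_⟩
    obtain ⟨l, rfl⟩ : ∃ l, m = n + l := ⟨m - n, by omega⟩
    have : x * y * u ^ (n + l) = (x * u ^ n) * (y * u ^ l) := by ring
    rw [this]
    exact mul_mem_pow (hn n le_rfl) (hn' l (by omega))
  one_mem' := ⟨0, fun m _ => by rw [one_mul]; exact pow_mem_pow hu m⟩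
  add_mem' := by
    rintro x y ⟨n, hn⟩ ⟨n', hn'⟩
    refine ⟨n + n', fun m hm => ?_⟩
    rw [add_mul]
    exact Submodule.add_mem _ (hn m (by omega)) (hn' m (by omega))
  zero_mem' := ⟨0, fun m _ => by rw [zero_mul]; exact Submodule.zero_mem _⟩
  neg_mem' := by
    rintro x ⟨n, hn⟩
    exact ⟨n, fun m hm => by rw [neg_mul]; exact Submodule.neg_mem _ (hn m hm)⟩

theorem mem_chartRing {u : K} {hu : u ∈ W} {z : K} :
    z ∈ chartRing W u hu ↔ ∃ n : ℕ, ∀ m ≥ n, z * u ^ m ∈ W ^ m := Iff.rfl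

theorem div_mem_chartRing {u : K} (hu : u ∈ W) (hu0 : u ≠ 0) {n : ℕ} {a : K} (ha : a ∈ W ^ n) :
    a / u ^ n ∈ chartRing W u hu := by
  refine ⟨n, fun m hm => ?_⟩
  obtain ⟨l, rfl⟩ : ∃ l, m = n + l := ⟨m - n, by omega⟩
  have : a / u ^ n * u ^ (n + l) = a * u ^ l := by rw [pow_add]; field_simp
  rw [this]
  exact mul_mem_pow ha (pow_mem_pow hu l)

/-- The denominators of `z` (a section of degree `n`) in the chart ring. -/
def denIdeal (W : Submodule k K) (u : K) (hu : u ∈ W) (n : ℕ) (z : K) :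
    Ideal (chartRing W u hu) where
  carrier := {a | ∃ l : ℕ, ∀ m ≥ l, (a : K) * u ^ m * z ∈ W ^ (m + n)}
  add_mem' := by
    rintro x y ⟨n, hn⟩ ⟨n', hn'⟩
    refine ⟨n + n', fun m hm => ?_⟩
    rw [Subring.coe_add, add_mul, add_mul]
    exact Submodule.add_mem _ (hn m (by omega)) (hn' m (by omega))
  zero_mem' := ⟨0, fun m _ => by simp⟩
  smul_mem' := by
    rintro ⟨x, n', hn'⟩ y ⟨l, hl⟩
    refine ⟨n' + l, fun m hm => ?_⟩
    obtain ⟨j, rfl⟩ : ∃ j, m = n' + j := ⟨m - n', by omega⟩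
    have : ((⟨x, n', hn'⟩ : chartRing W u hu) • y : chartRing W u hu) =
      (x * (y : K) : K) := rfl
    rw [this]
    have h2 : x * (y : K) * u ^ (n' + j) * z = (x * u ^ n') * ((y : K) * u ^ j * z) := by ring
    rw [h2, add_assoc]
    exact mul_mem_pow (hn' n' le_rfl) (hl j (by omega))

theorem mem_denIdeal {u : K} {hu : u ∈ W} {n : ℕ} {z : K}
    {a : chartRing W u hu} :
    a ∈ denIdeal W u hu n z ↔ ∃ l : ℕ, ∀ m ≥ l, (a : K) * u ^ m * z ∈ W ^ (m + n) := Iff.rfl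

theorem exists_pow_mul_mem (hK : IsFunctionField k K) (hW : BPF W D)
    (hns : ∀ P : Place k K, ∀ z : K, P.1 z ≤ 1 →
      ∃ n : ℕ, ∃ a ∈ W ^ n, ∃ c ∈ W ^ n, P.1 c = exp (n * D P) ∧ z * c = a)
    {u : K} (hu : u ∈ W) (hu0 : u ≠ 0) {n : ℕ} {z : K} (hz : z ∈ L (n • D)) :
    ∃ l : ℕ, ∀ m ≥ l, u ^ m * z ∈ W ^ (m + n) := by
  -- denominators at a place
  have hden : ∀ P : Place k K, ∃ a ∈ denIdeal W u hu n z, ∃ m : ℕ, ∃ c : K,
      (a : K) = c / u ^ m ∧ P.1 c = exp (m * D P) := by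
    intro P
    obtain ⟨u', hu', hu'P⟩ := hW.2 P
    have hu'0 : u' ≠ 0 := ((val_eq_exp_iff P).mp hu'P).1
    have h1 : P.1 (z / u' ^ n) ≤ 1 := by
      rw [map_div₀, val_pow_eq hu'P, div_le_one₀ (by simp)]
      simpa using hz P
    obtain ⟨m, a, ha, c, hc, hcP, h⟩ := hns P _ h1
    refine ⟨⟨c / u ^ m, div_mem_chartRing hu hu0 hc⟩, ⟨m, fun l hl => ?_⟩, m, c, rfl, hcP⟩
    obtain ⟨j, rfl⟩ : ∃ j, l = m + j := ⟨l - m, by omega⟩
    have h2 : c / u ^ m * u ^ (m + j) * z = a * (u ^ j * u' ^ n) := by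
      rw [← h]; rw [pow_add]; field_simp
    change c / u ^ m * u ^ (m + j) * z ∈ _
    rw [h2, add_assoc]
    exact mul_mem_pow ha (mul_mem_pow (pow_mem_pow hu _) (pow_mem_pow hu' _))
  by_cases htop : denIdeal W u hu n z = ⊤
  · have h1 : (1 : chartRing W u hu) ∈ denIdeal W u hu n z := by rw [htop]; trivial
    obtain ⟨l, hl⟩ := h1
    exact ⟨l, fun m hm => by simpa using hl m hm⟩
  · exfalso
    obtain ⟨B, hAB, hJB⟩ := Ideal.image_subset_nonunits_valuationSubring _ htop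
    have hconst : ∀ c : k, algebraMap k K c ∈ B := by
      intro c
      apply hAB
      refine ⟨0, fun m _ => ?_⟩
      rw [← Algebra.smul_def]
      exact Submodule.smul_mem _ c (pow_mem_pow hu m)
    have hBtop : B ≠ ⊤ := by
      rintro rfl
      obtain ⟨P⟩ := K660.Places.nonempty_place hK
      obtain ⟨a, ha, m, c, hac, hcP⟩ := hden P
      have h1 : (a : K) ∈ (⊤ : ValuationSubring K).nonunits := hJB ⟨a, ha, rfl⟩
      have hc0 : c ≠ 0 := ((val_eq_exp_iff P).mp hcP).1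
      have ha0 : (a : K) ≠ 0 := by rw [hac]; exact div_ne_zero hc0 (pow_ne_zero _ hu0)
      rw [ValuationSubring.mem_nonunits_iff_exists_mem_maximalIdeal] at h1
      obtain ⟨h2, h3⟩ := h1
      rw [IsLocalRing.mem_maximalIdeal] at h3
      apply h3
      refine ⟨⟨⟨a, h2⟩, ⟨(a : K)⁻¹, ValuationSubring.mem_top _⟩, ?_, ?_⟩, rfl⟩
      · ext1; exact mul_inv_cancel₀ ha0
      · ext1; exact inv_mul_cancel₀ ha0
    obtain ⟨P, hP⟩ := K660.Places.exists_place hK B hBtop hconst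
    -- `u` is exact at `P`
    have huP : P.1 u = exp (D P) := by
      obtain ⟨w, hw, hwP⟩ := hW.2 P
      refine le_antisymm (hW.1 hu P) ?_
      have h1 : w / u ∈ P.O := by
        rw [hP]
        apply hAB
        have := div_mem_chartRing (n := 1) hu hu0 (a := w) (by rwa [pow_one])
        rwa [pow_one] at this
      have h2 : P.1 (w / u) ≤ 1 := h1
      rw [map_div₀, hwP, div_le_one₀ (zero_lt_iff.mpr (val_ne_zero P hu0))] at h2
      exact h2
    obtain ⟨a, ha, m, c, hac, hcP⟩ := hden P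
    have h1 : (a : K) ∈ B.nonunits := hJB ⟨a, ha, rfl⟩
    rw [← hP, ValuationSubring.mem_nonunits_iff_exists_mem_maximalIdeal] at h1
    obtain ⟨h2, h3⟩ := h1
    have h4 : P.1 (a : K) < 1 := (Valuation.mem_maximalIdeal_iff (v := P.1)).mp h3
    rw [hac, map_div₀, hcP, val_pow_eq huP, div_self exp_ne_zero] at h4
    exact lt_irrefl _ h4

open scoped Pointwise in
theorem exists_of_mem_pair_pow {u v : K} (n : ℕ) {x : K} (hx : x ∈ ({u, v} : Set K) ^ n) :
    ∃ a b : ℕ, a + b = n ∧ x = u ^ a * v ^ b := by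
  induction n generalizing x with
  | zero =>
    rw [pow_zero, Set.mem_one] at hx
    exact ⟨0, 0, rfl, by rw [hx]; simp⟩
  | succ n ih =>
    rw [pow_succ] at hx
    obtain ⟨y, hy, z, hz, rfl⟩ := hx
    obtain ⟨a, b, hab, rfl⟩ := ih hy
    rcases hz with rfl | rfl
    · exact ⟨a + 1, b, by omega, by simp only; ring⟩
    · exact ⟨a, b + 1, by omega, by simp only; ring⟩

open scoped Pointwise in
/-- If all local rings are the valuation rings, then `L(ND) = W^N` for arbitrarily large `N`. -/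
theorem exists_L_le_pow [Infinite k] (hK : IsFunctionField k K) (hW : BPF W D)
    (hdeg : 0 < D.deg)
    (hns : ∀ P : Place k K, ∀ z : K, P.1 z ≤ 1 →
      ∃ n : ℕ, ∃ a ∈ W ^ n, ∃ c ∈ W ^ n, P.1 c = exp (n * D P) ∧ z * c = a) (N₀ : ℕ) :
    ∃ N ≥ N₀, L (N • D) ≤ W ^ N := by
  classical
  obtain ⟨u, hu, hu0⟩ := (Submodule.ne_bot_iff _).mp (hW.ne_bot hK)
  obtain ⟨v, hv, hv0, huv⟩ := hW.exists_pencil hK hu hu0 ⊥ (by
    rw [le_bot_iff]; exact hW.ne_bot hK)
  rw [Submodule.mem_bot] at hv0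
  obtain ⟨n₁, -, hn₁⟩ := exists_pencil_step hK hdeg hu0 hv0 (hW.1 hu) (hW.1 hv) huv
  set n := max n₁ N₀ with hn
  have := K660.Compare.finite_L hK (n • D)
  obtain ⟨s, hs⟩ : (L (n • D)).FG := Module.Finite.iff_fg.mp inferInstance
  -- uniform exponent
  have huni : ∀ w : K, w ∈ W → w ≠ 0 → ∃ l : ℕ, ∀ z ∈ L (n • D), w ^ l * z ∈ W ^ (l + n) := by
    intro w hw hw0
    have h1 : ∀ z : K, ∃ l : ℕ, z ∈ L (n • D) → ∀ m ≥ l, w ^ m * z ∈ W ^ (m + n) := by
      intro z
      by_cases hz : z ∈ L (n • D)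
      · obtain ⟨l, hl⟩ := exists_pow_mul_mem hK hW hns hw hw0 hz
        exact ⟨l, fun _ => hl⟩
      · exact ⟨0, fun h => absurd h hz⟩
    choose l hl using h1
    refine ⟨∑ z ∈ s, l z, fun z hz => ?_⟩
    rw [← hs] at hz
    refine Submodule.span_induction
      (p := fun z _ => w ^ (∑ z ∈ s, l z) * z ∈ W ^ ((∑ z ∈ s, l z) + n)) ?_ ?_ ?_ ?_ hz
    · intro z hz
      exact hl z (by rw [← hs]; exact Submodule.subset_span hz) _
        (Finset.single_le_sum (f := l) (fun _ _ => Nat.zero_le _) hz)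
    · rw [mul_zero]; exact Submodule.zero_mem _
    · intro x y _ _ hx hy
      rw [mul_add]; exact Submodule.add_mem _ hx hy
    · intro c x _ hx
      rw [mul_smul_comm]; exact Submodule.smul_mem _ c hx
  obtain ⟨l, hl⟩ := huni u hu hu0
  obtain ⟨l', hl'⟩ := huni v hv hv0
  refine ⟨n + (l + l'), by omega, ?_⟩
  refine (exists_pow_mul hn₁ n (le_max_left _ _) (l + l')).trans ?_
  rw [Submodule.span_pow]
  rw [← Submodule.span_eq (L (n • D)), Submodule.span_mul_span, Submodule.span_le]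
  rintro _ ⟨x, hx, z, hz, rfl⟩
  obtain ⟨a, b, hab, rfl⟩ := exists_of_mem_pair_pow _ hx
  simp only
  by_cases ha : l ≤ a
  · obtain ⟨j, rfl⟩ : ∃ j, a = l + j := ⟨a - l, by omega⟩
    have h1 : u ^ (l + j) * v ^ b * z = (u ^ l * z) * (u ^ j * v ^ b) := by ring
    have h2 : n + (l + l') = (l + n) + (j + b) := by omega
    rw [h1, h2]
    exact mul_mem_pow (hl z hz) (mul_mem_pow (pow_mem_pow hu _) (pow_mem_pow hv _))
  · obtain ⟨j, rfl⟩ : ∃ j, b = l' + j := ⟨b - l', by omega⟩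
    have h1 : u ^ a * v ^ (l' + j) * z = (v ^ l' * z) * (u ^ a * v ^ j) := by ring
    have h2 : n + (l + l') = (l' + n) + (a + j) := by omega
    rw [h1, h2]
    exact mul_mem_pow (hl' z hz) (mul_mem_pow (pow_mem_pow hu _) (pow_mem_pow hv _))

end

end K664
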