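import Groth.Agent.FunFld.K664.Map
import Mathlib.Algebra.Algebra.Operations

/-! The local ring of a projective map in terms of the powers `W^n` of the span `W` (helper664). -/

set_option autoImplicit false

open WithZero

namespace K664

open FunFld

variable {k K : Type*} [Field k] [Field K] [Algebra k K]

section powers

variable {W : Submodule k K} {D : Divisor k K}

theorem pow_le_L (h : W ≤ L D) (n : ℕ) : W ^ n ≤ L (n • D) := by
  induction n with
  | zero =>
    rw [pow_zero, zero_smul]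
    rw [Submodule.one_le]
    exact one_mem_L le_rfl
  | succ n ih =>
    rw [pow_succ, succ_nsmul, Submodule.mul_le]
    intro a ha b hb
    exact mul_mem_L (ih ha) (h hb)

theorem val_pow_le (h : W ≤ L D) {n : ℕ} {a : K} (ha : a ∈ W ^ n) (P : Place k K) :
    P.1 a ≤ exp (n * D P) := by
  have := pow_le_L h n ha P
  simpa using this

theorem val_pow_eq {P : Place k K} {u : K} {d : ℤ} (hu : P.1 u = exp d) (n : ℕ) :
    P.1 (u ^ n) = exp (n * d) := by
  rw [map_pow, hu, ← exp_nsmul, nsmul_eq_mul]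

theorem pow_mem_pow {u : K} (hu : u ∈ W) (n : ℕ) : u ^ n ∈ W ^ n := Submodule.pow_mem_pow W hu n

theorem mul_mem_pow {a b : K} {n m : ℕ} (ha : a ∈ W ^ n) (hb : b ∈ W ^ m) : a * b ∈ W ^ (n + m) := by
  rw [pow_add]; exact Submodule.mul_mem_mul ha hb

end powers

section birational

/-- The ratios of elements of the same power of `W`, as an intermediate field. -/
def ratioField (W : Submodule k K) : IntermediateField k K where
  carrier := {z | ∃ n : ℕ, ∃ a ∈ W ^ n, ∃ b ∈ W ^ n, b ≠ 0 ∧ z * b = a}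
  mul_mem' := by
    rintro x y ⟨n, a, ha, b, hb, hb0, h⟩ ⟨n', a', ha', b', hb', hb0', h'⟩
    refine ⟨n + n', a * a', mul_mem_pow ha ha', b * b', mul_mem_pow hb hb', mul_ne_zero hb0 hb0', ?_⟩
    rw [← h, ← h']; ring
  add_mem' := by
    rintro x y ⟨n, a, ha, b, hb, hb0, h⟩ ⟨n', a', ha', b', hb', hb0', h'⟩
    refine ⟨n + n', a * b' + b * a', Submodule.add_mem _ (mul_mem_pow ha hb') (mul_mem_pow hb ha'),
      b * b', mul_mem_pow hb hb', mul_ne_zero hb0 hb0', ?_⟩
    rw [← h, ← h']; ring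
  algebraMap_mem' := by
    intro c
    refine ⟨0, algebraMap k K c, ?_, 1, ?_, one_ne_zero, mul_one _⟩
    · rw [pow_zero]; exact Submodule.algebraMap_mem c
    · rw [pow_zero]; exact Submodule.one_le.mp le_rfl
  inv_mem' := by
    rintro x ⟨n, a, ha, b, hb, hb0, h⟩
    by_cases hx : x = 0
    · subst hx
      refine ⟨0, 0, Submodule.zero_mem _, 1, ?_, one_ne_zero, by simp⟩
      rw [pow_zero]; exact Submodule.one_le.mp le_rfl
    · refine ⟨n, b, hb, a, ha, ?_, ?_⟩
      · rw [← h]; exact mul_ne_zero hx hb0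
      · rw [← h]; field_simp

theorem mem_ratioField {W : Submodule k K} {z : K} :
    z ∈ ratioField W ↔ ∃ n : ℕ, ∃ a ∈ W ^ n, ∃ b ∈ W ^ n, b ≠ 0 ∧ z * b = a := Iff.rfl

theorem div_mem_ratioField {W : Submodule k K} {a b : K} (ha : a ∈ W) (hb : b ∈ W) :
    a / b ∈ ratioField W := by
  by_cases hb0 : b = 0
  · rw [hb0, div_zero]; exact zero_mem _
  · exact ⟨1, a, by rwa [pow_one], b, by rwa [pow_one], hb0, div_mul_cancel₀ a hb0⟩

/-- If the ratios generate `K`, every element is a ratio of elements of the same power of `W`. -/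
theorem exists_ratio {W : Submodule k K} {T : Set K}
    (hT : ∀ t ∈ T, t ∈ ratioField W) (h : IntermediateField.adjoin k T = ⊤) (z : K) :
    ∃ n : ℕ, ∃ a ∈ W ^ n, ∃ b ∈ W ^ n, b ≠ 0 ∧ z * b = a := by
  have h1 : IntermediateField.adjoin k T ≤ ratioField W := IntermediateField.adjoin_le_iff.mpr hT
  rw [h] at h1
  exact h1 (IntermediateField.mem_top (x := z))

/-- Common denominators. -/
theorem exists_common_denominator {W : Submodule k K}
    (hbir : ∀ z : K, ∃ n : ℕ, ∃ a ∈ W ^ n, ∃ b ∈ W ^ n, b ≠ 0 ∧ z * b = a) (s : Finset K) :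
    ∃ m : ℕ, ∃ b ∈ W ^ m, b ≠ 0 ∧ ∀ z ∈ s, b * z ∈ W ^ m := by
  classical
  induction s using Finset.induction_on with
  | empty => exact ⟨0, 1, by rw [pow_zero]; exact Submodule.one_le.mp le_rfl, one_ne_zero, by simp⟩
  | insert z s _ ih =>
    obtain ⟨m, b, hb, hb0, h⟩ := ih
    obtain ⟨n, a, ha, c, hc, hc0, hz⟩ := hbir z
    refine ⟨m + n, b * c, mul_mem_pow hb hc, mul_ne_zero hb0 hc0, fun w hw => ?_⟩
    rcases Finset.mem_insert.mp hw with rfl | hw
    · have : b * c * w = b * a := by rw [← hz]; ring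
      rw [this]; exact mul_mem_pow hb ha
    · have : b * c * w = (b * w) * c := by ring
      rw [this]; exact mul_mem_pow (h w hw) hc

theorem exists_common_denominator_fg {W : Submodule k K}
    (hbir : ∀ z : K, ∃ n : ℕ, ∃ a ∈ W ^ n, ∃ b ∈ W ^ n, b ≠ 0 ∧ z * b = a) {u : K} (hu : u ∈ W)
    (hu0 : u ≠ 0) (V : Submodule k K) [FiniteDimensional k V] (n : ℕ) :
    ∃ m : ℕ, ∃ b ∈ W ^ m, b ≠ 0 ∧ ∀ z ∈ V, b * z ∈ W ^ (m + n) := by
  classical
  obtain ⟨s, hs⟩ : V.FG := Module.Finite.iff_fg.mp inferInstance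
  obtain ⟨m, b, hb, hb0, h⟩ := exists_common_denominator hbir (s.image fun z => z / u ^ n)
  refine ⟨m, b, hb, hb0, fun z hz => ?_⟩
  rw [← hs] at hz
  refine Submodule.span_induction (p := fun z _ => b * z ∈ W ^ (m + n)) ?_ ?_ ?_ ?_ hz
  · intro z hz
    have h1 := h (z / u ^ n) (Finset.mem_image_of_mem _ hz)
    have h2 : b * z = (b * (z / u ^ n)) * u ^ n := by
      field_simp
    rw [h2]
    exact mul_mem_pow h1 (pow_mem_pow hu n)
  · rw [mul_zero]; exact Submodule.zero_mem _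
  · intro x y _ _ hx hy
    rw [mul_add]; exact Submodule.add_mem _ hx hy
  · intro c x _ hx
    rw [mul_smul_comm]; exact Submodule.smul_mem _ c hx

end birational

section locring

variable {ι : Type*} {φ : ι → K} {D : Divisor k K}

theorem exists_exact_entry (hW : BPF (Submodule.span k (Set.range φ)) D) (P : Place k K) :
    ∃ j, P.1 (φ j) = exp (D P) := by
  by_contra hcon
  push Not at hcon
  apply hW.not_le_lowAt P
  rw [Submodule.span_le]
  rintro _ ⟨i, rfl⟩
  exact lt_of_le_of_ne (hW.1 (Submodule.subset_span ⟨i, rfl⟩) P) (hcon i)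

theorem exact_of_least (hW : BPF (Submodule.span k (Set.range φ)) D) (P : Place k K) {j : ι}
    (hj : ∀ i, P.1 (φ i) ≤ P.1 (φ j)) : P.1 (φ j) = exp (D P) := by
  obtain ⟨i, hi⟩ := exists_exact_entry hW P
  exact le_antisymm (hW.1 (Submodule.subset_span ⟨j, rfl⟩) P) (hi ▸ hj i)

theorem adjoin_mul_pow_mem {j : ι} (hj : φ j ≠ 0) {a : K}
    (ha : a ∈ Algebra.adjoin k (Set.range fun i => φ i / φ j)) :
    ∃ n : ℕ, ∀ m ≥ n, a * φ j ^ m ∈ (Submodule.span k (Set.range φ)) ^ m := by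
  have hjW : φ j ∈ Submodule.span k (Set.range φ) := Submodule.subset_span ⟨j, rfl⟩
  induction ha using Algebra.adjoin_induction with
  | mem x hx =>
    obtain ⟨i, rfl⟩ := hx
    refine ⟨1, fun m hm => ?_⟩
    obtain ⟨m, rfl⟩ : ∃ m', m = m' + 1 := ⟨m - 1, by omega⟩
    have : φ i / φ j * φ j ^ (m + 1) = φ j ^ m * φ i := by
      rw [pow_succ]; field_simp
    rw [this, pow_succ]
    exact Submodule.mul_mem_mul (pow_mem_pow hjW m) (Submodule.subset_span ⟨i, rfl⟩)
  | algebraMap c =>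
    refine ⟨0, fun m _ => ?_⟩
    rw [← Algebra.smul_def]
    exact Submodule.smul_mem _ c (pow_mem_pow hjW m)
  | add x y _ _ hx hy =>
    obtain ⟨n, hn⟩ := hx
    obtain ⟨n', hn'⟩ := hy
    refine ⟨max n n', fun m hm => ?_⟩
    rw [add_mul]
    exact Submodule.add_mem _ (hn m (le_trans (le_max_left _ _) hm))
      (hn' m (le_trans (le_max_right _ _) hm))
  | mul x y _ _ hx hy =>
    obtain ⟨n, hn⟩ := hx
    obtain ⟨n', hn'⟩ := hy
    refine ⟨n + n', fun m hm => ?_⟩
    obtain ⟨m', rfl⟩ : ∃ m', m = n + m' := ⟨m - n, by omega⟩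
    have : x * y * φ j ^ (n + m') = (x * φ j ^ n) * (y * φ j ^ m') := by ring
    rw [this]
    exact mul_mem_pow (hn n le_rfl) (hn' m' (by omega))

theorem div_pow_mem_adjoin {j : ι} (hj : φ j ≠ 0) {n : ℕ} :
    ∀ {a : K}, a ∈ (Submodule.span k (Set.range φ)) ^ n →
    a / φ j ^ n ∈ Algebra.adjoin k (Set.range fun i => φ i / φ j) := by
  induction n with
  | zero =>
    intro a ha
    rw [pow_zero] at ha
    obtain ⟨c, rfl⟩ := Submodule.mem_one.mp ha
    rw [pow_zero, div_one]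
    exact Subalgebra.algebraMap_mem _ c
  | succ n ih =>
    intro a ha
    rw [pow_succ] at ha
    refine Submodule.mul_induction_on ha ?_ ?_
    · intro x hx y hy
      have : x * y / φ j ^ (n + 1) = (x / φ j ^ n) * (y / φ j) := by
        rw [pow_succ]; field_simp
      rw [this]
      refine Subalgebra.mul_mem _ (ih hx) ?_
      refine Submodule.span_induction
        (p := fun y _ => y / φ j ∈ Algebra.adjoin k (Set.range fun i => φ i / φ j)) ?_ ?_ ?_ ?_ hy
      · rintro _ ⟨i, rfl⟩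
        exact Algebra.subset_adjoin ⟨i, rfl⟩
      · rw [zero_div]; exact Subalgebra.zero_mem _
      · intro x y _ _ hx hy
        rw [add_div]; exact Subalgebra.add_mem _ hx hy
      · intro c x _ hx
        rw [smul_div_assoc]; exact Subalgebra.smul_mem _ hx c
    · intro x y hx hy
      rw [add_div]; exact Subalgebra.add_mem _ hx hy

/-- The local ring in terms of the powers of `W`. -/
theorem inLocRing_iff (hW : BPF (Submodule.span k (Set.range φ)) D) (P : Place k K) (z : K) :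
    InLocRing φ P z ↔ ∃ n : ℕ, ∃ a ∈ (Submodule.span k (Set.range φ)) ^ n,
      ∃ b ∈ (Submodule.span k (Set.range φ)) ^ n, P.1 b = exp (n * D P) ∧ z * b = a := by
  constructor
  · rintro ⟨j, hj0, hj, u, hu, w, hw, hPw, h⟩
    obtain ⟨n, hn⟩ := adjoin_mul_pow_mem hj0 hu
    obtain ⟨n', hn'⟩ := adjoin_mul_pow_mem hj0 hw
    refine ⟨n + n', u * φ j ^ (n + n'), hn _ (by omega), w * φ j ^ (n + n'), hn' _ (by omega), ?_, ?_⟩
    · rw [map_mul, hPw, one_mul, val_pow_eq (exact_of_least hW P hj)]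
    · rw [← h]; ring
  · rintro ⟨n, a, ha, b, hb, hPb, h⟩
    obtain ⟨j, hj⟩ := exists_exact_entry hW P
    have hj0 : φ j ≠ 0 := ((val_eq_exp_iff P).mp hj).1
    refine ⟨j, hj0, fun i => ?_, a / φ j ^ n, div_pow_mem_adjoin hj0 ha, b / φ j ^ n,
      div_pow_mem_adjoin hj0 hb, ?_, ?_⟩
    · rw [hj]; exact hW.1 (Submodule.subset_span ⟨i, rfl⟩) P
    · rw [map_div₀, hPb, val_pow_eq hj, div_self exp_ne_zero]
    · rw [← h]; ring

end locring

end K664
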