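import Groth.Agent.FunFld.K664.Ell
import Mathlib.GroupTheory.CosetCover

/-! Projective maps: the divisor `mapDiv`, base point free pairs `(W, D)`, pencils (helper664). -/

set_option autoImplicit false

open WithZero

namespace K664

open FunFld

variable {k K : Type*} [Field k] [Field K] [Algebra k K]

/-- `W` generates the divisor `D`: `W ≤ L(D)` and at every place some element of `W` has exact order
`-D(P)`. -/
def BPF (W : Submodule k K) (D : Divisor k K) : Prop :=
  W ≤ L D ∧ ∀ P : Place k K, ∃ w ∈ W, P.1 w = exp (D P)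

section mapDiv

variable {ι : Type*} [Fintype ι] [Nonempty ι]

theorem mapDiv_support_finite (hK : IsFunctionField k K) (φ : ι → K) :
    (Function.support fun P : Place k K =>
      -Finset.univ.inf' Finset.univ_nonempty (fun i => P.ord (φ i))).Finite := by
  refine (Set.finite_iUnion fun i : ι => finite_support_ord hK (φ i)).subset ?_
  intro P hP
  rw [Function.mem_support, neg_ne_zero] at hP
  obtain ⟨i, -, hi⟩ := Finset.exists_mem_eq_inf' (Finset.univ_nonempty (α := ι))
    (fun i => P.ord (φ i))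
  rw [hi] at hP
  exact Set.mem_iUnion.mpr ⟨i, hP⟩

theorem mapDiv_apply (hK : IsFunctionField k K) (φ : ι → K) (P : Place k K) :
    mapDiv k φ P = -Finset.univ.inf' Finset.univ_nonempty (fun i => P.ord (φ i)) := by
  unfold mapDiv
  rw [dif_pos (mapDiv_support_finite hK φ)]
  rfl

theorem neg_mapDiv_le_ord (hK : IsFunctionField k K) (φ : ι → K) (P : Place k K) (i : ι) :
    -(mapDiv k φ P) ≤ P.ord (φ i) := by
  rw [mapDiv_apply hK, neg_neg]
  exact Finset.inf'_le _ (Finset.mem_univ i)

theorem exists_ord_eq_neg_mapDiv (hK : IsFunctionField k K) (φ : ι → K) (P : Place k K) :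
    ∃ j, P.ord (φ j) = -(mapDiv k φ P) := by
  obtain ⟨i, -, hi⟩ := Finset.exists_mem_eq_inf' (Finset.univ_nonempty (α := ι))
    (fun i => P.ord (φ i))
  exact ⟨i, by rw [mapDiv_apply hK, neg_neg, hi]⟩

theorem val_le_exp_mapDiv (hK : IsFunctionField k K) (φ : ι → K) (P : Place k K) (i : ι) :
    P.1 (φ i) ≤ exp (mapDiv k φ P) := by
  by_cases h : φ i = 0
  · rw [h, map_zero]; exact zero_le
  · rw [val_le_exp_iff P h]; exact neg_mapDiv_le_ord hK φ P i

theorem span_le_L_mapDiv (hK : IsFunctionField k K) (φ : ι → K) :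
    Submodule.span k (Set.range φ) ≤ L (mapDiv k φ) := by
  rw [Submodule.span_le]
  rintro _ ⟨i, rfl⟩ P
  exact val_le_exp_mapDiv hK φ P i

/-- At each place some entry has exact order, if no entry vanishes. -/
theorem exists_val_eq_of_ne_zero (hK : IsFunctionField k K) (φ : ι → K) (h : ∀ i, φ i ≠ 0)
    (P : Place k K) : ∃ j, P.1 (φ j) = exp (mapDiv k φ P) := by
  obtain ⟨j, hj⟩ := exists_ord_eq_neg_mapDiv hK φ P
  exact ⟨j, by rw [val_eq_exp P (h j), hj, neg_neg]⟩

/-- At each place some entry has exact order, if `1` is an entry. -/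
theorem exists_val_eq_of_one (hK : IsFunctionField k K) (φ : ι → K) {i₀ : ι} (h : φ i₀ = 1)
    (P : Place k K) : ∃ j, P.1 (φ j) = exp (mapDiv k φ P) := by
  obtain ⟨j, hj⟩ := exists_ord_eq_neg_mapDiv hK φ P
  by_cases h0 : φ j = 0
  · refine ⟨i₀, ?_⟩
    rw [h0, ord_zero] at hj
    rw [h, map_one, show mapDiv k φ P = 0 by omega, exp_zero]
  · exact ⟨j, by rw [val_eq_exp P h0, hj, neg_neg]⟩

theorem bpf_of_exists (hK : IsFunctionField k K) (φ : ι → K)
    (h : ∀ P : Place k K, ∃ j, P.1 (φ j) = exp (mapDiv k φ P)) :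
    BPF (Submodule.span k (Set.range φ)) (mapDiv k φ) :=
  ⟨span_le_L_mapDiv hK φ, fun P => by
    obtain ⟨j, hj⟩ := h P
    exact ⟨φ j, Submodule.subset_span ⟨j, rfl⟩, hj⟩⟩

theorem bpf_of_linearIndependent (hK : IsFunctionField k K) (φ : ι → K)
    (h : LinearIndependent k φ) :
    BPF (Submodule.span k (Set.range φ)) (mapDiv k φ) :=
  bpf_of_exists hK φ (exists_val_eq_of_ne_zero hK φ h.ne_zero)

theorem bpf_of_one (hK : IsFunctionField k K) (φ : ι → K) {i₀ : ι} (h : φ i₀ = 1) :
    BPF (Submodule.span k (Set.range φ)) (mapDiv k φ) :=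
  bpf_of_exists hK φ (exists_val_eq_of_one hK φ h)

end mapDiv

theorem BPF.unique {W : Submodule k K} {D E : Divisor k K} (h : BPF W D) (h' : BPF W E) :
    D = E := by
  ext P
  obtain ⟨w, hw, hwP⟩ := h.2 P
  obtain ⟨w', hw', hwP'⟩ := h'.2 P
  have h1 := h'.1 hw P
  have h2 := h.1 hw' P
  rw [hwP, exp_le_exp] at h1
  rw [hwP', exp_le_exp] at h2
  omega

/-- Avoidance: over an infinite field, a subspace not contained in any of finitely many subspaces
has an element outside all of them. -/
theorem exists_mem_forall_notMem {k V : Type*} [Field k] [Infinite k] [AddCommGroup V] [Module k V]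
    (W : Submodule k V) {ι : Type*} (s : Set ι) (hs : s.Finite) (p : ι → Submodule k V)
    (h : ∀ i ∈ s, ¬ W ≤ p i) : ∃ w ∈ W, ∀ i ∈ s, w ∉ p i := by
  classical
  have := hs.to_subtype
  by_contra hcon
  push Not at hcon
  obtain ⟨i, hi⟩ := Subspace.exists_eq_top_of_iUnion_eq_univ (k := k) (E := W)
    (p := fun i : s => (p i).comap W.subtype) (by
      rw [Set.eq_univ_iff_forall]
      rintro ⟨w, hw⟩
      obtain ⟨i, hi, hwi⟩ := hcon w hw
      exact Set.mem_iUnion.mpr ⟨⟨i, hi⟩, hwi⟩)
  apply h i i.2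
  intro w hw
  have : (⟨w, hw⟩ : W) ∈ (p i).comap W.subtype := by
    have h2 : (p i).comap W.subtype = ⊤ := hi
    rw [h2]; trivial
  exact this

/-- The elements of order `> -D(P)` at `P`. -/
def lowAt (P : Place k K) (n : ℤ) : Submodule k K where
  carrier := {x | P.1 x < exp n}
  add_mem' {x y} hx hy := lt_of_le_of_lt (P.1.map_add x y) (max_lt hx hy)
  zero_mem' := by simp
  smul_mem' c x hx := lt_of_le_of_lt (val_smul_le P c x) hx

@[simp] theorem mem_lowAt {P : Place k K} {n : ℤ} {x : K} : x ∈ lowAt P n ↔ P.1 x < exp n := Iff.rfl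

theorem BPF.not_le_lowAt {W : Submodule k K} {D : Divisor k K} (h : BPF W D) (P : Place k K) :
    ¬ W ≤ lowAt P (D P) := by
  intro hle
  obtain ⟨w, hw, hwP⟩ := h.2 P
  have := hle hw
  rw [mem_lowAt, hwP] at this
  exact lt_irrefl _ this

/-- For a finite set `S` of places and a subspace `W'` not containing `W`, some `w ∈ W \ W'` has exact
order `-D(P)` at all `P ∈ S`. -/
theorem BPF.exists_exact [Infinite k] {W : Submodule k K} {D : Divisor k K} (h : BPF W D)
    (S : Set (Place k K)) (hS : S.Finite) (W' : Submodule k K) (hW' : ¬ W ≤ W') :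
    ∃ w ∈ W, w ∉ W' ∧ ∀ P ∈ S, P.1 w = exp (D P) := by
  classical
  obtain ⟨w, hw, hw2⟩ := exists_mem_forall_notMem W (insert none (some '' S))
    ((hS.image _).insert _) (fun i : Option (Place k K) => match i with
      | none => W'
      | some P => lowAt P (D P)) (by
      intro i hi
      rcases hi with rfl | ⟨P, hP, rfl⟩
      · exact hW'
      · exact h.not_le_lowAt P)
  refine ⟨w, hw, hw2 none (Set.mem_insert _ _), fun P hP => ?_⟩
  have := hw2 (some P) (Set.mem_insert_of_mem _ ⟨P, hP, rfl⟩)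
  simp only [mem_lowAt, not_lt] at this
  exact le_antisymm (h.1 hw P) this

theorem finite_lt (hK : IsFunctionField k K) {D : Divisor k K} {u : K} (hu : u ≠ 0)
    (h : u ∈ L D) : {P : Place k K | P.1 u ≠ exp (D P)}.Finite := by
  refine ((finite_support_ord hK u).union D.hasFiniteSupport).subset ?_
  intro P hP
  by_contra hcon
  simp only [Set.mem_union, Function.mem_support, not_or, not_not] at hcon
  apply hP
  rw [val_eq_exp P hu, hcon.1, hcon.2, neg_zero]

/-- **Base point free pencils.** -/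
theorem BPF.exists_pencil [Infinite k] (hK : IsFunctionField k K) {W : Submodule k K}
    {D : Divisor k K} (h : BPF W D) {u : K} (hu : u ∈ W) (hu0 : u ≠ 0) (W' : Submodule k K)
    (hW' : ¬ W ≤ W') :
    ∃ v ∈ W, v ∉ W' ∧ ∀ P : Place k K, P.1 u = exp (D P) ∨ P.1 v = exp (D P) := by
  obtain ⟨v, hv, hv', hv2⟩ := h.exists_exact _ (finite_lt hK hu0 (h.1 hu)) W' hW'
  refine ⟨v, hv, hv', fun P => ?_⟩
  by_cases hP : P.1 u = exp (D P)
  · exact Or.inl hP
  · exact Or.inr (hv2 P hP)

theorem BPF.ne_bot (hK : IsFunctionField k K) {W : Submodule k K} {D : Divisor k K}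
    (h : BPF W D) : W ≠ ⊥ := by
  rintro rfl
  obtain ⟨P⟩ := K660.Places.nonempty_place hK
  obtain ⟨w, hw, hwP⟩ := h.2 P
  rw [Submodule.mem_bot] at hw
  subst hw
  rw [map_zero] at hwP
  exact exp_ne_zero hwP.symm

/-- The multiplication-by-a-pencil step: `L((n+1)D) = u L(nD) + v L(nD)` follows from the dimension
count. -/
theorem pencil_step {D : Divisor k K} {u v : K} (hu0 : u ≠ 0) (hv0 : v ≠ 0) (hu : u ∈ L D)
    (hv : v ∈ L D) (huv : ∀ P : Place k K, P.1 u = exp (D P) ∨ P.1 v = exp (D P))
    (E : Divisor k K) [FiniteDimensional k (L (E + D))] [FiniteDimensional k (L E)]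
    [FiniteDimensional k (L (E - D))]
    (hdim : ell (E + D) + ell (E - D) = 2 * ell E) :
    (L E).map (LinearMap.mulLeft k u) ⊔ (L E).map (LinearMap.mulLeft k v) = L (E + D) := by
  have hle : (L E).map (LinearMap.mulLeft k u) ⊔ (L E).map (LinearMap.mulLeft k v) ≤ L (E + D) := by
    refine sup_le ?_ ?_
    · rintro _ ⟨a, ha, rfl⟩
      rw [add_comm]; exact mul_mem_L hu ha
    · rintro _ ⟨a, ha, rfl⟩
      rw [add_comm]; exact mul_mem_L hv ha
  have hinf : (L E).map (LinearMap.mulLeft k u) ⊓ (L E).map (LinearMap.mulLeft k v) =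
      (L (E - D)).map (LinearMap.mulLeft k (u * v)) := by
    apply le_antisymm
    · rintro _ ⟨⟨a, ha, rfl⟩, ⟨b, hb, hab⟩⟩
      simp only [LinearMap.mulLeft_apply] at hab ⊢
      -- `u a = v b`, `c = a / v = b / u`
      refine ⟨a / v, ?_, by simp only [LinearMap.mulLeft_apply]; field_simp⟩
      intro P
      rw [Finsupp.sub_apply]
      rcases huv P with hP | hP
      · have : a / v = b / u := by
          field_simp; rw [mul_comm a u, ← hab]
        rw [this, map_div₀, hP, exp_sub]
        gcongr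
        · simp
        · exact hb P
      · rw [map_div₀, hP, exp_sub]
        gcongr
        · simp
        · exact ha P
    · rintro _ ⟨c, hc, rfl⟩
      simp only [LinearMap.mulLeft_apply]
      refine ⟨⟨v * c, ?_, by simp only [LinearMap.mulLeft_apply]; ring⟩,
        ⟨u * c, ?_, by simp only [LinearMap.mulLeft_apply]; ring⟩⟩
      · have := mul_mem_L hv hc
        rwa [add_sub_cancel] at this
      · have := mul_mem_L hu hc
        rwa [add_sub_cancel] at this
  have hmap : ∀ (F : Divisor k K) {w : K}, w ≠ 0 →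
      Module.finrank k ((L F).map (LinearMap.mulLeft k w)) = ell F := by
    intro F w hw
    exact (LinearEquiv.finrank_eq (Submodule.equivMapOfInjective (LinearMap.mulLeft k w)
      (mul_right_injective₀ hw) (L F))).symm
  have h1 := Submodule.finrank_sup_add_finrank_inf_eq ((L E).map (LinearMap.mulLeft k u))
    ((L E).map (LinearMap.mulLeft k v))
  rw [hinf, hmap E hu0, hmap E hv0, hmap (E - D) (mul_ne_zero hu0 hv0)] at h1
  refine Submodule.eq_of_le_of_finrank_eq hle ?_
  change _ = ell (E + D)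
  omega

end K664
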