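import Groth.Agent.FunFld.K664.EmbedCan
import Groth.Agent.FunFld.K668.Rank
import Groth.Agent.FunFld.K669.Adapted
import Groth.Agent.FunFld.K669.OrdersAt
import Groth.Agent.FunFld.K669.Normalize
import Groth.Agent.FunFld.K663.HasseEx

/-! Existence of a Hasse family for a local parameter and of the orders of a linear system at a place;
the orders of a complete linear system of large degree (helper664). -/

set_option autoImplicit false

open WithZero

namespace K664

open FunFld

variable {k K : Type*} [Field k] [Field K] [Algebra k K] [IsAlgClosed k]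

/-- The total Hasse derivative with respect to a local parameter exists. -/
theorem exists_isHasseFamily_of_val (hK : IsFunctionField k K) (P : Place k K) {t : K}
    (ht : P.1 t = exp (-1)) : ∃ Ht : K →ₐ[k] PowerSeries K, LocRes.IsHasseFamily t Ht := by
  obtain ⟨s, H, -, -, hH⟩ := K663.HasseEx.exists_of_perfectField hK
  obtain ⟨ψ, hψ, -⟩ := K669.Expansion.exists_expansion hK P t ht
  exact K669.HasseExists.exists_isHasseFamily_of_D_ne_zero (K669.DivDiff.finrank_kaehler hK) H hH
    (K669.HasseExists.D_ne_zero_of_val ψ hψ ht)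

/-- The orders of a linear system at a place exist. -/
theorem exists_isOrders_hcolAt (hK : IsFunctionField k K) (P : Place k K) {n : ℕ}
    (φ : Fin (n + 1) → K) (hφ : LinearIndependent k φ)
    (heff : (1 : K) ∈ Submodule.span k (Set.range φ)) (hnorm : ∀ i, P.1 (φ i) ≤ 1) {t : K}
    (ht : P.1 t = exp (-1)) (Ht : K →ₐ[k] PowerSeries K) (hHt : LocRes.IsHasseFamily t Ht) :
    ∃ J' : Fin n → ℕ, IsOrders (IsLocalRing.ResidueField P.O) (hcolAt P Ht φ) J' := by
  obtain ⟨Ψ, hΨ, -, hval⟩ := K669.Local.exists_expansion_hasse hK P ht Ht hHt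
  have hinj : Function.Injective (algebraMap k (IsLocalRing.ResidueField P.O)) :=
    FaithfulSMul.algebraMap_injective _ _
  have hsurj := K669.Adapted.surj_residue hK P
  have hrow : LinearIndependent (IsLocalRing.ResidueField P.O)
      (fun i : Fin (n + 1) => fun j : ℕ => hcolAt P Ht φ (j + 1) i) := by
    rw [Fintype.linearIndependent_iff]
    intro g hg i
    choose μ hμ using fun i => hsurj (g i)
    have hzero : Ψ (∑ i, μ i • φ i) = 0 := by
      ext m
      rw [map_sum, HahnSeries.coeff_sum, HahnSeries.coeff_zero]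
      have hterm : ∀ i, (Ψ (μ i • φ i)).coeff m = μ i * (Ψ (φ i)).coeff m := by
        intro i
        rw [Algebra.smul_def, map_mul, LocRes.map_algebraMap, HahnSeries.C_mul_eq_smul]
        rfl
      rw [Finset.sum_congr rfl fun i _ => hterm i]
      rcases lt_or_ge m 0 with hm | hm
      · refine Finset.sum_eq_zero fun i _ => ?_
        have h1 : Valued.v (Ψ (φ i)) ≤ (exp (-0 : ℤ) : WithZero (Multiplicative ℤ)) := by
          rw [hΨ.1]; simpa using hnorm i
        rw [LaurentSeries.coeff_zero_of_lt_valuation k h1 hm, mul_zero]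
      · obtain ⟨j, rfl⟩ := Int.eq_ofNat_of_zero_le hm
        apply hinj
        rw [map_zero, map_sum]
        have h2 := congrFun hg j
        rw [Finset.sum_apply] at h2
        refine Eq.trans (Finset.sum_congr rfl fun i _ => ?_) h2
        rw [map_mul, hμ]
        change g i * _ = g i * _
        rw [← (hval (φ i) j (hnorm i)).2]
        rfl
    have h3 : ∑ i, μ i • φ i = 0 := by
      apply (Ψ : K →+* LaurentSeries k).injective
      rw [map_zero]; exact hzero
    have h4 := Fintype.linearIndependent_iff.mp hφ μ h3 i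
    rw [← hμ i, h4, map_zero]
  have hspan : (Submodule.span (IsLocalRing.ResidueField P.O) (Set.range (hcolAt P Ht φ))) = ⊤ := by
    rw [eq_top_iff, ← K668.Orders.span_eq_top_of_rows
      (fun (j : ℕ) (i : Fin (n + 1)) => hcolAt P Ht φ (j + 1) i) hrow]
    refine Submodule.span_mono ?_
    rintro _ ⟨j, rfl⟩
    exact ⟨j + 1, rfl⟩
  obtain ⟨J', hJ', -⟩ := K668.Orders.exists_isOrders (n := n) (by simp) _ hspan
    (K669.OrdersAt.hcolAt_zero_ne hK P φ heff hnorm Ht)
  exact ⟨J', hJ'⟩

end K664
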