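import Groth.Agent.FunFld.K664.App
import Mathlib.RingTheory.KrullDimension.Polynomial
import Mathlib.RingTheory.Nullstellensatz
import Mathlib.Algebra.MvPolynomial.NoZeroDivisors
import Mathlib.RingTheory.Polynomial.UniqueFactorization
import Mathlib.Order.KrullDimension

/-! Plane models: the ideal of relations of `x, y` is principal, the dimension of the space of
polynomials of degree `≤ n` in `x, y` (helper664). -/

set_option autoImplicit false

open WithZero

namespace K664

open FunFld

section count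

/-- Number of monomials of degree `≤ n` in two variables. -/
theorem card_le_two (n : ℕ) :
    Nat.card {s : Fin 2 →₀ ℕ | (s.sum fun _ e => e) ≤ n} * 2 = (n + 1) * (n + 2) := by
  have e : {s : Fin 2 →₀ ℕ | (s.sum fun _ e => e) ≤ n} ≃
      (Σ j : Fin (n + 1), {p : ℕ × ℕ // p ∈ Finset.antidiagonal (j : ℕ)}) :=
    { toFun := fun s => ⟨⟨s.1 0 + s.1 1, by
          have h : (s.1.sum fun _ e => e) ≤ n := s.2
          rw [Finsupp.sum_fintype _ _ (by simp), Fin.sum_univ_two] at h
          omega⟩, ⟨(s.1 0, s.1 1), by simp⟩⟩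
      invFun := fun p => ⟨Finsupp.equivFunOnFinite.symm ![p.2.1.1, p.2.1.2], by
          have h1 := p.1.2
          have h2 := Finset.mem_antidiagonal.mp p.2.2
          rw [Set.mem_ofPred_eq, Finsupp.sum_fintype _ _ (by simp), Fin.sum_univ_two]
          simp
          omega⟩
      left_inv := by
        intro s
        ext i
        fin_cases i <;> simp
      right_inv := by
        rintro ⟨⟨j, hj⟩, ⟨⟨a, b⟩, hab⟩⟩
        have h2 := Finset.mem_antidiagonal.mp hab
        simp only at h2
        subst h2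
        simp }
  rw [Nat.card_congr e, Nat.card_sigma]
  simp only [Nat.card_eq_fintype_card, Fintype.card_coe, Finset.Nat.card_antidiagonal]
  rw [Fin.sum_univ_eq_sum_range (fun j => j + 1) (n + 1)]
  have : ∀ m : ℕ, (∑ i ∈ Finset.range m, (i + 1)) * 2 = m * (m + 1) := by
    intro m
    induction m with
    | zero => simp
    | succ m ih => rw [Finset.sum_range_succ, add_mul, ih]; ring
  rw [this]

theorem finrank_restrictTotalDegree (k : Type*) [Field k] (n : ℕ) :
    Module.finrank k (MvPolynomial.restrictTotalDegree (Fin 2) k n) * 2 = (n + 1) * (n + 2) := by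
  have h : Module.finrank k (MvPolynomial.restrictTotalDegree (Fin 2) k n) =
      Nat.card {s : Fin 2 →₀ ℕ | (s.sum fun _ e => e) ≤ n} :=
    Module.finrank_eq_nat_card_basis (MvPolynomial.basisRestrictSupport k _)
  rw [h, card_le_two]

end count

variable {k K : Type*} [Field k] [Field K] [Algebra k K]

section relation

/-- `k(x, y) = K` is not `k`. -/
theorem exists_transcendental (hK : IsFunctionField k K) : ∃ x : K, Transcendental k x := by
  obtain ⟨⟨x, hx, -⟩, -⟩ := hK
  exact ⟨x, hx⟩

variable [IsAlgClosed k]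

theorem ker_not_isMaximal (hK : IsFunctionField k K) {x y : K}
    (hxy : IntermediateField.adjoin k ({x, y} : Set K) = ⊤) :
    ¬ (RingHom.ker (MvPolynomial.aeval ![x, y] : MvPolynomial (Fin 2) k →ₐ[k] K)).IsMaximal := by
  intro hmax
  obtain ⟨p, hp⟩ := (MvPolynomial.isMaximal_iff_eq_vanishingIdeal_singleton (K := k)).mp hmax
  have key : ∀ i : Fin 2, ![x, y] i = algebraMap k K (p i) := by
    intro i
    have h1 : (MvPolynomial.X i - MvPolynomial.C (p i) : MvPolynomial (Fin 2) k) ∈
        RingHom.ker (MvPolynomial.aeval ![x, y] : MvPolynomial (Fin 2) k →ₐ[k] K) := by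
      rw [hp, MvPolynomial.mem_vanishingIdeal_singleton_iff]
      simp
    rw [RingHom.mem_ker] at h1
    rw [map_sub, MvPolynomial.aeval_X, sub_eq_zero] at h1
    rw [h1]
    exact MvPolynomial.aeval_C _ _
  have hx := key 0
  have hy := key 1
  simp only [Matrix.cons_val_zero, Matrix.cons_val_one] at hx hy
  obtain ⟨t, ht⟩ := exists_transcendental hK
  have h2 : IntermediateField.adjoin k ({x, y} : Set K) ≤ ⊥ := by
    rw [IntermediateField.adjoin_le_iff]
    rintro z (rfl | rfl)
    · rw [hx]; exact IntermediateField.algebraMap_mem _ _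
    · rw [hy]; exact IntermediateField.algebraMap_mem _ _
  rw [hxy] at h2
  have h3 : t ∈ (⊥ : IntermediateField k K) := h2 IntermediateField.mem_top
  rw [IntermediateField.mem_bot] at h3
  obtain ⟨c, rfl⟩ := h3
  exact ht (isAlgebraic_algebraMap c)

/-- The relations of `x, y` are the multiples of an irreducible relation. -/
theorem dvd_of_aeval_eq_zero (hK : IsFunctionField k K) {x y : K}
    (hxy : IntermediateField.adjoin k ({x, y} : Set K) = ⊤) {f : MvPolynomial (Fin 2) k}
    (hf : Irreducible f) (hfxy : MvPolynomial.aeval ![x, y] f = 0) {g : MvPolynomial (Fin 2) k}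
    (hg : MvPolynomial.aeval ![x, y] g = 0) : f ∣ g := by
  by_contra hdvd
  set 𝔭 := RingHom.ker (MvPolynomial.aeval ![x, y] : MvPolynomial (Fin 2) k →ₐ[k] K) with h𝔭
  have hprime : 𝔭.IsPrime := RingHom.ker_isPrime _
  have hfprime : (Ideal.span {f}).IsPrime :=
    (Ideal.span_singleton_prime hf.ne_zero).mpr hf.prime
  obtain ⟨𝔪, hmax, hle⟩ := 𝔭.exists_le_maximal hprime.ne_top
  have hne : 𝔭 ≠ 𝔪 := by
    rintro h
    rw [← h] at hmax
    exact ker_not_isMaximal hK hxy hmax
  have h1 : (⊥ : Ideal (MvPolynomial (Fin 2) k)) < Ideal.span {f} := by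
    rw [bot_lt_iff_ne_bot, Ne, Ideal.span_singleton_eq_bot]; exact hf.ne_zero
  have h2 : Ideal.span {f} < 𝔭 := by
    refine lt_of_le_of_ne ?_ ?_
    · rw [Ideal.span_singleton_le_iff_mem]; exact hfxy
    · intro h
      have h3 : g ∈ 𝔭 := hg
      rw [← h, Ideal.mem_span_singleton] at h3
      exact hdvd h3
  have h3 : 𝔭 < 𝔪 := lt_of_le_of_ne hle hne
  let s : LTSeries (PrimeSpectrum (MvPolynomial (Fin 2) k)) :=
    LTSeries.mk 3 ![⟨⊥, Ideal.isPrime_bot⟩, ⟨Ideal.span {f}, hfprime⟩, ⟨𝔭, hprime⟩,
      ⟨𝔪, hmax.isPrime⟩] (by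
      rw [Fin.strictMono_iff_lt_succ]
      intro i
      fin_cases i
      · exact h1
      · exact h2
      · exact h3)
  have h4 : (3 : WithBot ℕ∞) ≤ ringKrullDim (MvPolynomial (Fin 2) k) :=
    Order.LTSeries.length_le_krullDim s
  rw [MvPolynomial.ringKrullDim_of_isNoetherianRing, ringKrullDim_eq_zero_of_field] at h4
  simp at h4
  exact absurd h4 (by decide)

theorem exists_irreducible_relation (hK : IsFunctionField k K) (x y : K) :
    ∃ f : MvPolynomial (Fin 2) k, Irreducible f ∧ MvPolynomial.aeval ![x, y] f = 0 := by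
  have hne : RingHom.ker (MvPolynomial.aeval ![x, y] : MvPolynomial (Fin 2) k →ₐ[k] K) ≠ ⊥ := by
    intro hbot
    have hind : AlgebraicIndependent k ![x, y] := by
      rw [algebraicIndependent_iff_injective_aeval]
      exact (RingHom.injective_iff_ker_eq_bot _).mpr hbot
    obtain ⟨t, ht⟩ := exists_transcendental hK
    have halg := K666.Basic.isAlgebraic_adjoin hK t ht
    have hta : AlgebraicIndependent k (fun _ : Unit => t) :=
      (algebraicIndependent_unique_type_iff (ι := Unit) (x := fun _ => t)).mpr ht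
    have hr : Set.range (fun _ : Unit => t) = {t} := by ext; simp [eq_comm]
    have hb : IsTranscendenceBasis k (fun _ : Unit => t) :=
      isTranscendenceBasis_iff_algebraicIndependent_isAlgebraic.mpr ⟨hta, by rw [hr]; exact halg⟩
    have h1 := hind.lift_cardinalMk_le_trdeg
    have h2 := hb.lift_cardinalMk_eq_trdeg
    rw [Cardinal.mk_fin, Cardinal.lift_natCast] at h1
    rw [Cardinal.mk_fintype, Fintype.card_unit, Cardinal.lift_natCast] at h2
    have h3 : Algebra.trdeg k K = 1 := by
      have := h2.symm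
      rw [Cardinal.lift_eq_nat_iff] at this
      exact_mod_cast this
    rw [h3] at h1
    simp at h1
  obtain ⟨f, hf, hfp⟩ := Ideal.IsPrime.exists_mem_prime_of_ne_bot (RingHom.ker_isPrime _) hne
  exact ⟨f, hfp.irreducible, hf⟩

/-- `W^n` is the space of polynomials of degree `≤ n` in `x, y`. -/
theorem pow_eq_map (x y : K) (n : ℕ) :
    (Submodule.span k (Set.range ![(1 : K), x, y])) ^ n =
      (MvPolynomial.restrictTotalDegree (Fin 2) k n).map
        (MvPolynomial.aeval ![x, y] : MvPolynomial (Fin 2) k →ₐ[k] K).toLinearMap := by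
  have h1 : (1 : K) ∈ Submodule.span k (Set.range ![(1 : K), x, y]) :=
    Submodule.subset_span ⟨0, rfl⟩
  have hx : x ∈ Submodule.span k (Set.range ![(1 : K), x, y]) :=
    Submodule.subset_span ⟨1, rfl⟩
  have hy : y ∈ Submodule.span k (Set.range ![(1 : K), x, y]) :=
    Submodule.subset_span ⟨2, rfl⟩
  apply le_antisymm
  · induction n with
    | zero =>
      rw [pow_zero, Submodule.one_le]
      exact ⟨1, by rw [SetLike.mem_coe, MvPolynomial.mem_restrictTotalDegree]; simp, by simp⟩
    | succ n ih =>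
      rw [pow_succ, Submodule.mul_le]
      intro a ha b hb
      obtain ⟨p, hp, rfl⟩ := ih ha
      obtain ⟨q, hq, rfl⟩ : ∃ q ∈ MvPolynomial.restrictTotalDegree (Fin 2) k 1,
          (MvPolynomial.aeval ![x, y] : MvPolynomial (Fin 2) k →ₐ[k] K).toLinearMap q = b := by
        have : Submodule.span k (Set.range ![(1 : K), x, y]) ≤
            (MvPolynomial.restrictTotalDegree (Fin 2) k 1).map
              (MvPolynomial.aeval ![x, y] : MvPolynomial (Fin 2) k →ₐ[k] K).toLinearMap := by
          rw [Submodule.span_le]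
          rintro _ ⟨i, rfl⟩
          fin_cases i
          · exact ⟨1, by rw [SetLike.mem_coe, MvPolynomial.mem_restrictTotalDegree]; simp, by simp⟩
          · exact ⟨MvPolynomial.X 0, by
              rw [SetLike.mem_coe, MvPolynomial.mem_restrictTotalDegree, MvPolynomial.totalDegree_X],
              by simp⟩
          · exact ⟨MvPolynomial.X 1, by
              rw [SetLike.mem_coe, MvPolynomial.mem_restrictTotalDegree, MvPolynomial.totalDegree_X],
              by simp⟩
        exact this hb
      refine ⟨p * q, ?_, by simp⟩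
      rw [SetLike.mem_coe, MvPolynomial.mem_restrictTotalDegree] at *
      exact (MvPolynomial.totalDegree_mul p q).trans (by omega)
  · rintro _ ⟨p, hp, rfl⟩
    rw [SetLike.mem_coe, MvPolynomial.mem_restrictTotalDegree] at hp
    change MvPolynomial.aeval ![x, y] p ∈ _
    rw [MvPolynomial.aeval_def, MvPolynomial.eval₂_eq']
    refine Submodule.sum_mem _ fun m hm => ?_
    rw [← Algebra.smul_def]
    refine Submodule.smul_mem _ _ ?_
    have h2 : m.sum (fun _ e => e) ≤ n := (MvPolynomial.le_totalDegree hm).trans hp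
    rw [Finsupp.sum_fintype _ _ (by simp), Fin.sum_univ_two] at h2
    rw [Fin.prod_univ_two]
    obtain ⟨l, hl⟩ : ∃ l, n = m 0 + m 1 + l := ⟨n - (m 0 + m 1), by omega⟩
    rw [hl]
    have h3 : ![x, y] 0 ^ m 0 * ![x, y] 1 ^ m 1 = x ^ m 0 * y ^ m 1 * 1 ^ l := by simp
    rw [h3]
    exact mul_mem_pow (mul_mem_pow (pow_mem_pow hx _) (pow_mem_pow hy _)) (pow_mem_pow h1 _)

theorem finrank_pow (hK : IsFunctionField k K) {x y : K}
    (hxy : IntermediateField.adjoin k ({x, y} : Set K) = ⊤) {f : MvPolynomial (Fin 2) k}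
    (hf : Irreducible f) (hfxy : MvPolynomial.aeval ![x, y] f = 0) {n : ℕ}
    (hn : f.totalDegree ≤ n) :
    Module.finrank k ↥((Submodule.span k (Set.range ![(1 : K), x, y])) ^ n) +
      Module.finrank k (MvPolynomial.restrictTotalDegree (Fin 2) k (n - f.totalDegree)) =
    Module.finrank k (MvPolynomial.restrictTotalDegree (Fin 2) k n) := by
  rw [pow_eq_map]
  set V := MvPolynomial.restrictTotalDegree (Fin 2) k n with hV
  set V' := MvPolynomial.restrictTotalDegree (Fin 2) k (n - f.totalDegree) with hV'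
  set ev := (MvPolynomial.aeval ![x, y] : MvPolynomial (Fin 2) k →ₐ[k] K).toLinearMap with hev
  have h1 := LinearMap.finrank_range_add_finrank_ker (ev.domRestrict V)
  rw [LinearMap.range_domRestrict] at h1
  rw [← h1]
  congr 1
  -- multiplication by `f`
  let μ : V' →ₗ[k] V := LinearMap.codRestrict V ((LinearMap.mulLeft k f).domRestrict V') (by
    rintro ⟨g, hg⟩
    rw [MvPolynomial.mem_restrictTotalDegree] at hg ⊢
    simp only [LinearMap.domRestrict_apply, LinearMap.mulLeft_apply]
    exact (MvPolynomial.totalDegree_mul f g).trans (by omega))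
  have hμ : Function.Injective μ := by
    rintro ⟨g, hg⟩ ⟨g', hg'⟩ h
    have h2 : f * g = f * g' := congrArg Subtype.val h
    exact Subtype.ext (mul_left_cancel₀ hf.ne_zero h2)
  have hrange : LinearMap.range μ = LinearMap.ker (ev.domRestrict V) := by
    apply le_antisymm
    · rintro _ ⟨⟨g, hg⟩, rfl⟩
      rw [LinearMap.mem_ker]
      change MvPolynomial.aeval ![x, y] (f * g) = 0
      rw [map_mul, hfxy, zero_mul]
    · rintro ⟨g, hg⟩ h
      rw [LinearMap.mem_ker] at h
      change MvPolynomial.aeval ![x, y] g = 0 at h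
      obtain ⟨q, rfl⟩ := dvd_of_aeval_eq_zero hK hxy hf hfxy h
      by_cases hq : q = 0
      · exact ⟨0, by ext1; simp [hq]⟩
      · rw [MvPolynomial.mem_restrictTotalDegree,
          MvPolynomial.totalDegree_mul_of_isDomain hf.ne_zero hq] at hg
        exact ⟨⟨q, by rw [MvPolynomial.mem_restrictTotalDegree]; omega⟩, rfl⟩
  rw [← hrange, LinearMap.finrank_range_of_inj hμ]

/-- `dim W^n = n e + 1 - (e-1)(e-2)/2` for `n ≥ e`. -/
theorem two_mul_finrank_pow (hK : IsFunctionField k K) {x y : K}
    (hxy : IntermediateField.adjoin k ({x, y} : Set K) = ⊤) {f : MvPolynomial (Fin 2) k}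
    (hf : Irreducible f) (hfxy : MvPolynomial.aeval ![x, y] f = 0) {n : ℕ}
    (hn : f.totalDegree ≤ n) :
    2 * (Module.finrank k ↥((Submodule.span k (Set.range ![(1 : K), x, y])) ^ n) : ℤ) =
      2 * n * f.totalDegree + 2 - ((f.totalDegree : ℤ) - 1) * (f.totalDegree - 2) := by
  have h1 := finrank_pow hK hxy hf hfxy hn
  have h2 := finrank_restrictTotalDegree k n
  have h3 := finrank_restrictTotalDegree k (n - f.totalDegree)
  obtain ⟨l, hl⟩ : ∃ l, n = f.totalDegree + l := ⟨n - f.totalDegree, by omega⟩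
  have h4 : n - f.totalDegree = l := by omega
  rw [h4] at h1 h3
  zify at h1 h2 h3
  have h5 : (n : ℤ) = f.totalDegree + l := by exact_mod_cast hl
  rw [h5] at h2 ⊢
  linear_combination 2 * h1 + h2 - h3

end relation

end K664
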