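import Groth.Agent.FunFld.K664.Plane
import Groth.Agent.FunFld.K664.Glob

/-! The genus of a plane model (helper664): `deg (1 : x : y) = deg f`, `2g ≤ (d-1)(d-2)`, with equality
iff the model is nonsingular. No differentials are used. -/

set_option autoImplicit false

open WithZero

namespace K664

open FunFld

variable {k K : Type*} [Field k] [Field K] [Algebra k K] [IsAlgClosed k]

theorem bpf_plane (hK : IsFunctionField k K) (x y : K) :
    BPF (Submodule.span k (Set.range ![(1 : K), x, y])) (mapDiv k ![(1 : K), x, y]) :=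
  bpf_of_one hK ![(1 : K), x, y] (i₀ := 0) rfl

theorem ratio_plane {x y : K} (hxy : IntermediateField.adjoin k ({x, y} : Set K) = ⊤) (z : K) :
    ∃ n : ℕ, ∃ a ∈ (Submodule.span k (Set.range ![(1 : K), x, y])) ^ n,
      ∃ b ∈ (Submodule.span k (Set.range ![(1 : K), x, y])) ^ n, b ≠ 0 ∧ z * b = a := by
  refine exists_ratio (T := {x, y}) ?_ hxy z
  have h1 : (1 : K) ∈ Submodule.span k (Set.range ![(1 : K), x, y]) :=
    Submodule.subset_span ⟨0, rfl⟩
  have hx : x ∈ Submodule.span k (Set.range ![(1 : K), x, y]) :=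
    Submodule.subset_span ⟨1, rfl⟩
  have hy : y ∈ Submodule.span k (Set.range ![(1 : K), x, y]) :=
    Submodule.subset_span ⟨2, rfl⟩
  rintro t (rfl | rfl)
  · simpa using div_mem_ratioField hx h1
  · simpa using div_mem_ratioField hy h1

theorem deg_plane_pos (hK : IsFunctionField k K) {x y : K}
    (hxy : IntermediateField.adjoin k ({x, y} : Set K) = ⊤) :
    0 < (mapDiv k ![(1 : K), x, y]).deg :=
  deg_pos_of_ratio hK (bpf_plane hK x y) (ratio_plane hxy)

theorem finite_pow (x y : K) (n : ℕ) :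
    FiniteDimensional k ↥((Submodule.span k (Set.range ![(1 : K), x, y])) ^ n) := by
  rw [pow_eq_map]
  infer_instance

/-- The Riemann equality for multiples of a divisor of positive degree. -/
theorem exists_ell_nsmul (hK : IsFunctionField k K) {D : Divisor k K} (hD : 0 < D.deg) :
    ∃ n₁ : ℕ, ∀ n ≥ n₁, (ell (n • D) : ℤ) = n * D.deg + 1 - genus k K := by
  obtain ⟨N, hN0, hN⟩ := K660.Compare.riemann hK
  refine ⟨N.toNat, fun n hn => ?_⟩
  have h1 : N ≤ (n • D).deg := by
    rw [deg_nsmul]
    have : N ≤ n := by omega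
    nlinarith
  have := hN (n • D) h1
  rw [deg_nsmul] at this
  omega

/-- The degree of the plane map is the degree of the curve. -/
theorem deg_eq_totalDegree (hK : IsFunctionField k K) {x y : K}
    (hxy : IntermediateField.adjoin k ({x, y} : Set K) = ⊤) {f : MvPolynomial (Fin 2) k}
    (hf : Irreducible f) (hfxy : MvPolynomial.aeval ![x, y] f = 0) :
    (mapDiv k ![(1 : K), x, y]).deg = f.totalDegree := by
  have hW := bpf_plane hK x y
  have hpos := deg_plane_pos hK hxy
  set D := mapDiv k ![(1 : K), x, y] with hD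
  obtain ⟨m, n₁, b, hb, hb0, hcond⟩ := exists_conductor hK hW (ratio_plane hxy)
  obtain ⟨n₂, hn₂⟩ := exists_ell_nsmul hK hpos
  set e := f.totalDegree with he
  set c : ℤ := ((e : ℤ) - 1) * (e - 2) with hc
  -- upper and lower bounds
  have hup : ∀ n : ℕ, n₁ ≤ n → n₂ ≤ n → e ≤ m + n →
      2 * ((n : ℤ) * D.deg + 1 - genus k K) ≤ 2 * (m + n : ℕ) * e + 2 - c := by
    intro n h1 h2 h3
    rw [← hn₂ n h2, ← two_mul_finrank_pow hK hxy hf hfxy h3]
    have := finite_pow (k := k) x y (m + n)
    have h4 : ell (n • D) ≤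
        Module.finrank k ↥((Submodule.span k (Set.range ![(1 : K), x, y])) ^ (m + n)) := by
      rw [ell, ← LinearEquiv.finrank_eq (Submodule.equivMapOfInjective (LinearMap.mulLeft k b)
        (mul_right_injective₀ hb0) (L (n • D))).symm]
      apply Submodule.finrank_mono
      rintro _ ⟨z, hz, rfl⟩
      exact hcond n h1 z hz
    have h5 : (ell (n • D) : ℤ) ≤
        Module.finrank k ↥((Submodule.span k (Set.range ![(1 : K), x, y])) ^ (m + n)) := by
      exact_mod_cast h4
    linarith
  have hlow : ∀ n : ℕ, n₂ ≤ n → e ≤ n →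
      2 * (n : ℤ) * e + 2 - c ≤ 2 * ((n : ℤ) * D.deg + 1 - genus k K) := by
    intro n h2 h3
    rw [← hn₂ n h2, ← two_mul_finrank_pow hK hxy hf hfxy h3]
    have := K660.Compare.finite_L hK (n • D)
    have h4 : Module.finrank k ↥((Submodule.span k (Set.range ![(1 : K), x, y])) ^ n) ≤
        ell (n • D) := Submodule.finrank_mono (pow_le_L hW.1 n)
    have h5 : (Module.finrank k ↥((Submodule.span k (Set.range ![(1 : K), x, y])) ^ n) : ℤ) ≤
        ell (n • D) := by exact_mod_cast h4
    linarith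
  apply le_antisymm
  · by_contra hcon
    push Not at hcon
    set n : ℕ := n₁ + n₂ + e + m * e + genus k K + c.natAbs + 1 with hn
    have h1 := hup n (by omega) (by omega) (by omega)
    have h2 : (n : ℤ) * (e + 1) ≤ n * D.deg := by
      apply mul_le_mul_of_nonneg_left _ (by positivity)
      omega
    have h3 : (n : ℤ) = n₁ + n₂ + e + m * e + genus k K + |c| + 1 := by
      rw [hn]; push_cast; simp
    have h4 := neg_abs_le c
    push_cast at h1
    have h5 : (n : ℤ) * (e + 1) = n * e + n := by ring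
    have h6 : 2 * ((m : ℤ) + n) * e = 2 * (m * e) + 2 * (n * e) := by ring
    have h7 : (0 : ℤ) ≤ n₁ := by positivity
    have h8 : (0 : ℤ) ≤ n₂ := by positivity
    have h9 : (0 : ℤ) ≤ e := by positivity
    have h10 := abs_nonneg c
    linarith
  · by_contra hcon
    push Not at hcon
    set n : ℕ := n₁ + n₂ + e + genus k K + c.natAbs + 1 with hn
    have h1 := hlow n (by omega) (by omega)
    have h2 : (n : ℤ) * D.deg ≤ n * (e - 1) := by
      apply mul_le_mul_of_nonneg_left _ (by positivity)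
      omega
    have h3 : (n : ℤ) = n₁ + n₂ + e + genus k K + |c| + 1 := by
      rw [hn]; push_cast; simp
    have h4 := le_abs_self c
    nlinarith

theorem exists_two_mul_finrank_pow (hK : IsFunctionField k K) {x y : K}
    (hxy : IntermediateField.adjoin k ({x, y} : Set K) = ⊤) :
    ∃ n₁ : ℕ, ∀ n ≥ n₁,
      2 * (Module.finrank k ↥((Submodule.span k (Set.range ![(1 : K), x, y])) ^ n) : ℤ) =
        2 * (ell (n • mapDiv k ![(1 : K), x, y]) : ℤ) + 2 * genus k K -
          ((mapDiv k ![(1 : K), x, y]).deg - 1) * ((mapDiv k ![(1 : K), x, y]).deg - 2) := by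
  obtain ⟨f, hf, hfxy⟩ := exists_irreducible_relation hK x y
  obtain ⟨n₂, hn₂⟩ := exists_ell_nsmul hK (deg_plane_pos hK hxy)
  refine ⟨n₂ + f.totalDegree, fun n hn => ?_⟩
  rw [two_mul_finrank_pow hK hxy hf hfxy (by omega), hn₂ n (by omega),
    deg_eq_totalDegree hK hxy hf hfxy]
  ring

theorem two_mul_genus_le (hK : IsFunctionField k K) {x y : K}
    (hxy : IntermediateField.adjoin k ({x, y} : Set K) = ⊤) :
    2 * (genus k K : ℤ) ≤
      ((mapDiv k ![(1 : K), x, y]).deg - 1) * ((mapDiv k ![(1 : K), x, y]).deg - 2) := by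
  obtain ⟨n₁, hn₁⟩ := exists_two_mul_finrank_pow hK hxy
  have h1 := hn₁ n₁ le_rfl
  have := K660.Compare.finite_L hK (n₁ • mapDiv k ![(1 : K), x, y])
  have h4 : Module.finrank k ↥((Submodule.span k (Set.range ![(1 : K), x, y])) ^ n₁) ≤
      ell (n₁ • mapDiv k ![(1 : K), x, y]) :=
    Submodule.finrank_mono (pow_le_L (bpf_plane hK x y).1 n₁)
  have h5 : (Module.finrank k ↥((Submodule.span k (Set.range ![(1 : K), x, y])) ^ n₁) : ℤ) ≤
      ell (n₁ • mapDiv k ![(1 : K), x, y]) := by exact_mod_cast h4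
  linarith

theorem isNonsingularAt_iff (hK : IsFunctionField k K) (x y : K) (P : Place k K) :
    IsNonsingularAt ![(1 : K), x, y] P ↔ ∀ z : K, P.1 z ≤ 1 →
      ∃ n : ℕ, ∃ a ∈ (Submodule.span k (Set.range ![(1 : K), x, y])) ^ n,
      ∃ c ∈ (Submodule.span k (Set.range ![(1 : K), x, y])) ^ n,
        P.1 c = exp (n * mapDiv k ![(1 : K), x, y] P) ∧ z * c = a :=
  forall₂_congr fun z _ => inLocRing_iff (bpf_plane hK x y) P z

theorem two_mul_genus_eq_iff (hK : IsFunctionField k K) {x y : K}
    (hxy : IntermediateField.adjoin k ({x, y} : Set K) = ⊤) :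
    2 * (genus k K : ℤ) =
      ((mapDiv k ![(1 : K), x, y]).deg - 1) * ((mapDiv k ![(1 : K), x, y]).deg - 2) ↔
      ∀ P : Place k K, IsNonsingularAt ![(1 : K), x, y] P := by
  obtain ⟨n₁, hn₁⟩ := exists_two_mul_finrank_pow hK hxy
  have hW := bpf_plane hK x y
  have hpos := deg_plane_pos hK hxy
  constructor
  · intro h P
    rw [isNonsingularAt_iff hK]
    intro z hz
    refine exists_ratio_of_pow_eq hK hpos (n₁ := n₁) (fun n hn => ?_) P hz
    have h1 := hn₁ n hn
    have := K660.Compare.finite_L hK (n • mapDiv k ![(1 : K), x, y])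
    refine (Submodule.eq_of_le_of_finrank_eq (pow_le_L hW.1 n) ?_).ge
    change _ = ell _
    have h2 : 2 * (Module.finrank k ↥((Submodule.span k (Set.range ![(1 : K), x, y])) ^ n) : ℤ) =
        2 * (ell (n • mapDiv k ![(1 : K), x, y]) : ℤ) := by rw [h1, h]; ring
    omega
  · intro h
    obtain ⟨N, hN, hle⟩ := exists_L_le_pow hK hW hpos
      (fun P => (isNonsingularAt_iff hK x y P).mp (h P)) n₁
    have h1 := hn₁ N hN
    have h2 : (Submodule.span k (Set.range ![(1 : K), x, y])) ^ N =
        L (N • mapDiv k ![(1 : K), x, y]) := le_antisymm (pow_le_L hW.1 N) hle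
    rw [h2] at h1
    change 2 * (ell (N • mapDiv k ![(1 : K), x, y]) : ℤ) = _ at h1
    linarith

end K664
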