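import Groth.Agent.FunFld.K664.OrdAt
import Groth.Agent.S12600
import Groth.Agent.S12606
import Groth.Agent.S12607
import Groth.Agent.FunFld.K663.AlgC

/-! Counting strong fixed points by the complete linear system of degree `n + g` (helper664). -/

set_option autoImplicit false

open WithZero

namespace K664

open FunFld

section comb

theorem strictMono_fin_add_le {n : ℕ} {f : Fin n → ℕ} (hf : StrictMono f) (i j : Fin n)
    (h : i ≤ j) : f i + ((j : ℕ) - i) ≤ f j := by
  obtain ⟨d, hd⟩ : ∃ d : ℕ, (j : ℕ) = i + d := ⟨j - i, by have : (i : ℕ) ≤ j := h; omega⟩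
  induction d generalizing j with
  | zero =>
    have : j = i := Fin.ext (by omega)
    subst this; simp
  | succ d ih =>
    have hlt : (i : ℕ) + d < n := by have := j.2; omega
    have h1 := ih ⟨i + d, hlt⟩ (by rw [Fin.le_def]; simp) rfl
    have h2 : f ⟨i + d, hlt⟩ < f j := hf (by rw [Fin.lt_def]; simp; omega)
    simp only at h1
    omega

variable {n g : ℕ} {J J' : Fin n → ℕ}

theorem order_eq_succ (hJ' : StrictMono J') (hpos : ∀ l, 0 < J' l)
    (hr : ∀ j, 1 ≤ j → j + g ≤ n → j ∈ Set.range J') (l : Fin n) (hl : (l : ℕ) + 1 + g ≤ n) :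
    J' l = l + 1 := by
  have hge : ∀ m : Fin n, (m : ℕ) + 1 ≤ J' m := by
    intro m
    have h1 := strictMono_fin_add_le hJ' ⟨0, by have := m.2; omega⟩ m (by rw [Fin.le_def]; simp)
    have h2 := hpos ⟨0, by have := m.2; omega⟩
    simp only at h1
    omega
  obtain ⟨m, hm⟩ := hr (l + 1) (by omega) hl
  rcases lt_or_ge m l with h | h
  · exfalso
    -- by strong induction all smaller ones are exact
    have hex : ∀ N : ℕ, ∀ m : Fin n, (m : ℕ) = N → (m : ℕ) + 1 + g ≤ n → J' m = m + 1 := by
      intro N
      induction N using Nat.strong_induction_on with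
      | _ N ih =>
        intro m hmN hmg
        obtain ⟨m', hm'⟩ := hr (m + 1) (by omega) hmg
        rcases lt_or_ge m' m with h1 | h1
        · have h2 := ih m' (by rw [← hmN]; exact h1) m' rfl (by
            have : (m' : ℕ) < m := h1
            omega)
          have : (m' : ℕ) < m := h1
          omega
        · have h2 := hJ'.monotone h1
          have h3 := hge m
          omega
    have h1 := hex l l rfl hl
    have h2 := hJ' h
    omega
  · have h2 := hJ'.monotone h
    have h3 := hge l
    omega

theorem sum_orders_le (hJ' : StrictMono J') (hpos : ∀ l, 0 < J' l)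
    (hr : ∀ j, 1 ≤ j → j + g ≤ n → j ∈ Set.range J') (hle : ∀ l, J' l ≤ n + g)
    (hJ : ∀ l, J l + 1 ≤ J' l) :
    ∑ l, J l ≤ (∑ l : Fin n, (l : ℕ)) + g * g := by
  have h1 : ∀ l : Fin n, J l ≤ l + if n ≤ (l : ℕ) + g then g else 0 := by
    intro l
    have h2 := hJ l
    split_ifs with h
    · have h3 := strictMono_fin_add_le hJ' l ⟨n - 1, by have := l.2; omega⟩
        (by rw [Fin.le_def]; simp; have := l.2; omega)
      have h4 := hle ⟨n - 1, by have := l.2; omega⟩
      simp only at h3
      have := l.2
      omega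
    · have h3 := order_eq_succ hJ' hpos hr l (by omega)
      omega
  calc ∑ l, J l ≤ ∑ l : Fin n, ((l : ℕ) + if n ≤ (l : ℕ) + g then g else 0) :=
        Finset.sum_le_sum fun l _ => h1 l
    _ = (∑ l : Fin n, (l : ℕ)) + ∑ l : Fin n, (if n ≤ (l : ℕ) + g then g else 0) :=
        Finset.sum_add_distrib
    _ ≤ (∑ l : Fin n, (l : ℕ)) + g * g := by
        refine Nat.add_le_add_left ?_ _
        rw [Fin.sum_univ_eq_sum_range (fun i => if n ≤ i + g then g else 0) n,
          ← Finset.sum_filter, Finset.sum_const, smul_eq_mul]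
        refine Nat.mul_le_mul_right _ ?_
        calc (Finset.filter (fun i => n ≤ i + g) (Finset.range n)).card
            ≤ (Finset.Ico (n - g) n).card := by
              apply Finset.card_le_card
              intro i hi
              rw [Finset.mem_filter, Finset.mem_range] at hi
              rw [Finset.mem_Ico]; omega
          _ ≤ g := by rw [Nat.card_Ico]; omega

theorem le_sum_orders (hJ : StrictMono J) : (∑ l : Fin n, (l : ℕ)) ≤ ∑ l, J l := by
  refine Finset.sum_le_sum fun l _ => ?_
  have h1 := strictMono_fin_add_le hJ ⟨0, by have := l.2; omega⟩ l (by rw [Fin.le_def]; simp)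
  simp only at h1
  omega

theorem two_mul_sum_fin (n : ℕ) : 2 * ((∑ l : Fin n, (l : ℕ) : ℕ) : ℤ) = n * (n - 1) := by
  rw [Fin.sum_univ_eq_sum_range (fun i => i) n]
  induction n with
  | zero => simp
  | succ n ih =>
    rw [Finset.sum_range_succ]
    push_cast at ih ⊢
    linear_combination ih

end comb

variable {k K : Type*} [Field k] [Field K] [Algebra k K] [IsAlgClosed k]

/-- A strong fixed point forces `τ ≠ id` on any birational system containing `1`. -/
theorem not_smul_of_strong (hK : IsFunctionField k K) {D : Divisor k K} {n : ℕ}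
    (hD : 2 * (genus k K : ℤ) + 1 ≤ D.deg) (φ : Fin (n + 1) → K)
    (hspan : Submodule.span k (Set.range φ) = L D)
    (h1 : (1 : K) ∈ L D) (τ : K →ₐ[k] K) (P : Place k K) (hP : IsStrongFixedPt τ P) :
    ¬ ∃ y : K, ∀ i, τ (φ i) = y * φ i := by
  rintro ⟨y, hy⟩
  have hy' : ∀ w ∈ L D, τ w = y * w := by
    intro w hw
    rw [← hspan] at hw
    induction hw using Submodule.span_induction with
    | mem x hx => obtain ⟨i, rfl⟩ := hx; exact hy i
    | zero => simp
    | add x z _ _ hx hz => rw [map_add, hx, hz, mul_add]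
    | smul c x _ hx => rw [map_smul, hx, mul_smul_comm]
  have hy1 : y = 1 := by
    have := hy' 1 h1
    rw [map_one, mul_one] at this
    exact this.symm
  subst hy1
  have hfix : ∀ w ∈ L D, τ w = w := fun w hw => by rw [hy' w hw, one_mul]
  have hpow : ∀ m : ℕ, ∀ w ∈ (L D) ^ m, τ w = w := by
    intro m
    induction m with
    | zero =>
      intro w hw
      rw [pow_zero, Submodule.mem_one] at hw
      obtain ⟨c, rfl⟩ := hw
      exact τ.commutes c
    | succ m ih =>
      intro w hw
      rw [pow_succ] at hw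
      induction hw using Submodule.mul_induction_on' with
      | mem_mul_mem a ha b hb => rw [map_mul, ih a ha, hfix b hb]
      | add a _ b _ ha hb => rw [map_add, ha, hb]
  have hbir : ∀ z : K, ∃ m : ℕ, ∃ a ∈ (L D) ^ m, ∃ b ∈ (L D) ^ m, b ≠ 0 ∧ z * b = a := by
    have := K660.Compare.finite_L hK D
    have hdrop : ∀ P : Place k K, ell (D - Finsupp.single P 1) + 1 = ell D := by
      intro P
      have h0 := K660.Weil.ell_eq_of_deg_ge hK (D := D) (by omega)
      have h1 : Divisor.deg (D - Finsupp.single P 1) = D.deg - 1 := by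
        rw [deg_sub, deg_single, deg_place hK]; simp
      have h2 := K660.Weil.ell_eq_of_deg_ge hK (D := D - Finsupp.single P 1) (by omega)
      omega
    have hbpf : BPF (L D) D := by
      refine ⟨le_rfl, fun P => ?_⟩
      by_contra hcon
      push Not at hcon
      have h1 : L D ≤ L (D - Finsupp.single P 1) := fun w hw =>
        mem_L_sub_single hw (lt_of_le_of_ne (hw P) (hcon w hw))
      have := K660.Compare.finite_L hK (D - Finsupp.single P 1)
      have h2 : ell D ≤ ell (D - Finsupp.single P 1) := Submodule.finrank_mono h1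
      have h3 := hdrop P
      omega
    apply exists_ratio_of_codim_two hK hbpf
    intro P Q
    have hle : L (D - Finsupp.single P 1 - Finsupp.single Q 1) ≤ L D := by
      apply L_mono
      rw [sub_sub, sub_le_self_iff]
      exact add_nonneg (Finsupp.single_nonneg.mpr zero_le_one)
        (Finsupp.single_nonneg.mpr zero_le_one)
    rw [inf_eq_right.mpr hle]
    have h0 := K660.Weil.ell_eq_of_deg_ge hK (D := D) (by omega)
    have h1 : Divisor.deg (D - Finsupp.single P 1 - Finsupp.single Q 1) = D.deg - 2 := by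
      rw [deg_sub, deg_sub, deg_single, deg_single, deg_place hK, deg_place hK]; push_cast; ring
    have h2 := K660.Weil.ell_eq_of_deg_ge hK
      (D := D - Finsupp.single P 1 - Finsupp.single Q 1) (by omega)
    change ell _ + 2 = ell _
    omega
  have hid : ∀ z : K, τ z = z := by
    intro z
    obtain ⟨m, a, ha, b, hb, hb0, hz⟩ := hbir z
    have h2 : τ z * b = z * b := by
      conv_lhs => rw [← hpow m b hb]
      rw [← map_mul, hz, hpow m a ha]
    exact mul_right_cancel₀ hb0 h2
  obtain ⟨t, ht⟩ := P.2.2 (exp (-1))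
  have h2 := hP t (by rw [ht, ← exp_zero, exp_lt_exp]; norm_num)
  rw [hid, ht, exp_le_exp] at h2
  omega

/-- The complete linear system of a multiple of a point away from `P`. -/
theorem exists_system (hK : IsFunctionField k K) {n : ℕ} (hn : genus k K < n) (P : Place k K) :
    ∃ (D : Divisor k K) (φ : Fin (n + 1) → K), LinearIndependent k φ ∧
      Submodule.span k (Set.range φ) = L D ∧ D.deg = n + genus k K ∧ D P = 0 ∧ 0 ≤ D ∧
      mapDiv k φ = D := by
  classical
  have := K663.AlgC.infinite_place hK
  obtain ⟨Q, hQ⟩ := exists_ne P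
  set D : Divisor k K := Finsupp.single Q ((n + genus k K : ℕ) : ℤ) with hDdef
  have hdeg : D.deg = n + genus k K := by
    rw [hDdef, deg_single, deg_place hK]; push_cast; ring
  have hD0 : 0 ≤ D := Finsupp.single_nonneg.mpr (Nat.cast_nonneg _)
  have hell := K660.Weil.ell_eq_of_deg_ge hK (D := D) (by omega)
  have hfin := K660.Compare.finite_L hK D
  have hell' : Module.finrank k (L D) = n + 1 := by
    change ell D = n + 1
    omega
  let b := Module.finBasisOfFinrankEq k (L D) hell'
  have hli : LinearIndependent k (fun i => (b i : K)) :=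
    b.linearIndependent.map' (L D).subtype (Submodule.ker_subtype _)
  have hspan : Submodule.span k (Set.range fun i => (b i : K)) = L D := by
    have h1 : Set.range (fun i => (b i : K)) = (L D).subtype '' Set.range b := by
      rw [← Set.range_comp]; rfl
    rw [h1, Submodule.span_image, b.span_eq, Submodule.map_top, Submodule.range_subtype]
  refine ⟨D, fun i => (b i : K), hli, hspan, hdeg, ?_, hD0, ?_⟩
  · rw [hDdef, Finsupp.single_eq_of_ne (Ne.symm hQ)]
  · have h1 := bpf_of_linearIndependent hK _ hli
    rw [hspan] at h1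
    have hbpf : BPF (L D) D := by
      refine ⟨le_rfl, fun R => ?_⟩
      by_contra hcon
      push Not at hcon
      have h2 : L D ≤ L (D - Finsupp.single R 1) := fun w hw =>
        mem_L_sub_single hw (lt_of_le_of_ne (hw R) (hcon w hw))
      have := K660.Compare.finite_L hK (D - Finsupp.single R 1)
      have h3 : ell D ≤ ell (D - Finsupp.single R 1) := Submodule.finrank_mono h2
      have h4 : Divisor.deg (D - Finsupp.single R 1) = D.deg - 1 := by
        rw [deg_sub, deg_single R, deg_place hK]; simp
      have h5 := K660.Weil.ell_eq_of_deg_ge hK (D := D - Finsupp.single R 1) (by omega)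
      omega
    exact h1.unique hbpf

/-- The sum of the `τ`-orders of the complete linear system is small. -/
theorem sum_tau_orders_le (hK : IsFunctionField k K) {n : ℕ} (hn : genus k K < n)
    (τ : K →ₐ[k] K) (P : Place k K) (hP : IsStrongFixedPt τ P)
    {D : Divisor k K} {φ : Fin (n + 1) → K} (hφ : LinearIndependent k φ)
    (hspan : Submodule.span k (Set.range φ) = L D) (hdeg : D.deg = n + genus k K)
    (hDP : D P = 0) (hD0 : 0 ≤ D) {t : K} (ht : P.1 t = exp (-1))
    (Ht : K →ₐ[k] PowerSeries K) (hHt : LocRes.IsHasseFamily t Ht)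
    {J : Fin n → ℕ} (hJ : IsOrders K (hcol τ Ht φ) J) :
    ∑ l, J l ≤ (∑ l : Fin n, (l : ℕ)) + genus k K * genus k K := by
  have hτφ := not_smul_of_strong hK (by omega) φ hspan (one_mem_L hD0) τ P hP
  have heff : (1 : K) ∈ Submodule.span k (Set.range φ) := by rw [hspan]; exact one_mem_L hD0
  have hnorm : ∀ i, P.1 (φ i) ≤ 1 := by
    intro i
    have h1 : φ i ∈ L D := by rw [← hspan]; exact Submodule.subset_span ⟨i, rfl⟩
    have h2 := h1 P
    rwa [hDP, exp_zero] at h2
  obtain ⟨J', hJ'⟩ := exists_isOrders_hcolAt hK P φ hφ heff hnorm ht Ht hHt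
  have hpos := K669.Adapted.orders_pos P hHt hJ'
  have hiff := (Groth.Agent.S12607.result k K hK P φ hφ heff hnorm t ht Ht hHt J' hJ').2
  rw [hspan] at hiff
  have hr : ∀ j, 1 ≤ j → j + genus k K ≤ n → j ∈ Set.range J' := by
    intro j hj1 hjn
    have hE : ∃ f ∈ L D, P.1 f = exp (-(j : ℤ)) := by
      have hd1 : Divisor.deg (D - Finsupp.single P (j : ℤ)) = D.deg - j := by
        rw [deg_sub, deg_single, deg_place hK]; simp
      have hd2 : Divisor.deg (D - Finsupp.single P (j : ℤ) - Finsupp.single P 1) = D.deg - j - 1 := by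
        rw [deg_sub, hd1, deg_single, deg_place hK]; simp
      have he1 := K660.Weil.ell_eq_of_deg_ge hK (D := D - Finsupp.single P (j : ℤ)) (by omega)
      have he2 := K660.Weil.ell_eq_of_deg_ge hK
        (D := D - Finsupp.single P (j : ℤ) - Finsupp.single P 1) (by omega)
      by_contra hcon
      push Not at hcon
      have hval : (D - Finsupp.single P (j : ℤ) : Divisor k K) P = -(j : ℤ) := by
        rw [Finsupp.sub_apply, hDP, Finsupp.single_eq_same, zero_sub]
      have h2 : L (D - Finsupp.single P (j : ℤ)) ≤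
          L (D - Finsupp.single P (j : ℤ) - Finsupp.single P 1) := by
        intro w hw
        refine mem_L_sub_single hw (lt_of_le_of_ne (hw P) ?_)
        rw [hval]
        refine hcon w (L_mono ?_ hw)
        rw [sub_le_self_iff]
        exact Finsupp.single_nonneg.mpr (Nat.cast_nonneg _)
      have := K660.Compare.finite_L hK (D - Finsupp.single P (j : ℤ) - Finsupp.single P 1)
      have h3 : ell (D - Finsupp.single P (j : ℤ)) ≤
          ell (D - Finsupp.single P (j : ℤ) - Finsupp.single P 1) := Submodule.finrank_mono h2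
      omega
    rcases (hiff j).mpr hE with h | h
    · omega
    · exact h
  have hle : ∀ l, J' l ≤ n + genus k K := by
    intro l
    obtain ⟨f, hf, hfP⟩ := (hiff (J' l)).mp (Or.inr ⟨l, rfl⟩)
    have hf0 : f ≠ 0 := by
      rintro rfl; rw [map_zero] at hfP; exact exp_ne_zero hfP.symm
    by_contra hcon
    push Not at hcon
    have h1 : f ∈ L (D - Finsupp.single P (J' l : ℤ)) := by
      intro R
      rw [Finsupp.sub_apply]
      by_cases hR : R = P
      · rw [hR, Finsupp.single_eq_same, hDP, zero_sub, hfP]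
      · rw [Finsupp.single_eq_of_ne hR, sub_zero]; exact hf R
    have h2 : Divisor.deg (D - Finsupp.single P (J' l : ℤ)) < 0 := by
      rw [deg_sub, deg_single, deg_place hK]; push_cast; omega
    rw [K660.Compare.L_eq_bot_of_deg_neg hK h2, Submodule.mem_bot] at h1
    exact hf0 h1
  have hn0 : 0 < n := by omega
  have hJJ := Groth.Agent.S12606.result k K hK τ P hP hn0 φ hφ heff hnorm hτφ t ht Ht hHt J hJ J' hJ'
  refine sum_orders_le hJ'.1 hpos hr hle fun l => ?_
  have h1 := hJJ l
  have h2 := hpos ⟨0, hn0⟩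
  omega

/-- The count of strong fixed points, from the Weierstrass divisor bound (`S12604`). -/
theorem strong_final (hK : IsFunctionField k K) (τ : K →ₐ[k] K) (n : ℕ) (hn : genus k K < n)
    (hW : ∀ (φ : Fin (n + 1) → K), LinearIndependent k φ →
      (¬ ∃ y : K, ∀ i, τ (φ i) = y * φ i) → ∀ (s : K) (H : K →ₐ[k] PowerSeries K),
      LocRes.IsHasseFamily s H → ∀ J : Fin n → ℕ, IsOrders K (hcol τ H φ) J →
      {P : Place k K | IsStrongFixedPt τ P}.Finite ∧
      (n : ℤ) * (Set.ncard {P : Place k K | IsStrongFixedPt τ P} : ℤ) ≤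
        ((n : ℤ) + Module.finrank τ.fieldRange K) * (mapDiv k φ).deg +
          (2 * (genus k K : ℤ) - 2) * ∑ l, (J l : ℤ)) :
    {P : Place k K | IsStrongFixedPt τ P}.Finite ∧
    (Set.ncard {P : Place k K | IsStrongFixedPt τ P} : ℝ) ≤
      1 + Module.finrank τ.fieldRange K +
        (n + (Module.finrank τ.fieldRange K : ℝ) / n) * genus k K +
        2 * (genus k K : ℝ) ^ 2 * (genus k K - 1) / n := by
  have hn0 : 0 < n := by omega
  have hnR : (0 : ℝ) < n := by exact_mod_cast hn0
  have hgR : (0 : ℝ) ≤ genus k K := Nat.cast_nonneg _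
  have hqR : (0 : ℝ) ≤ Module.finrank τ.fieldRange K := Nat.cast_nonneg _
  by_cases hne : ∃ P : Place k K, IsStrongFixedPt τ P
  · obtain ⟨P, hP⟩ := hne
    obtain ⟨D, φ, hφ, hspan, hdeg, hDP, hD0, hmap⟩ := exists_system hK hn P
    obtain ⟨t, ht⟩ := P.2.2 (exp (-1))
    obtain ⟨Ht, hHt⟩ := exists_isHasseFamily_of_val hK P ht
    obtain ⟨J, hJ, -⟩ := Groth.Agent.S12600.result k K hK φ hφ τ t Ht hHt
    have h1 := sum_tau_orders_le hK hn τ P hP hφ hspan hdeg hDP hD0 ht Ht hHt hJ
    have h2 := le_sum_orders hJ.1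
    have hτφ := not_smul_of_strong hK (by omega) φ hspan (one_mem_L hD0) τ P hP
    obtain ⟨hfin, hle⟩ := hW φ hφ hτφ t Ht hHt J hJ
    refine ⟨hfin, ?_⟩
    rw [hmap, hdeg] at hle
    set N : ℕ := Set.ncard {P : Place k K | IsStrongFixedPt τ P} with hN
    set g : ℕ := genus k K with hg
    set q : ℕ := Module.finrank τ.fieldRange K with hq
    have h3 := two_mul_sum_fin n
    set T : ℕ := ∑ l : Fin n, (l : ℕ) with hT
    have hSJ : (∑ l, (J l : ℤ)) = ((∑ l, J l : ℕ) : ℤ) := by push_cast; rfl
    rw [hSJ] at hle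
    set S : ℕ := ∑ l, J l with hS
    have hle' : (n : ℝ) * N ≤ ((n : ℝ) + q) * (n + g) + (2 * (g : ℝ) - 2) * S := by
      exact_mod_cast hle
    have h3' : 2 * (T : ℝ) = n * (n - 1) := by exact_mod_cast h3
    have h1' : (S : ℝ) ≤ T + g * g := by exact_mod_cast h1
    have h2' : (T : ℝ) ≤ S := by exact_mod_cast h2
    have hkey : (n : ℝ) * N ≤ n * (1 + q + (n + (q : ℝ) / n) * g +
        2 * (g : ℝ) ^ 2 * (g - 1) / n) := by
      have hexp : (n : ℝ) * (1 + q + (n + (q : ℝ) / n) * g + 2 * (g : ℝ) ^ 2 * (g - 1) / n) =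
          n + n * q + n * n * g + q * g + 2 * (g : ℝ) ^ 2 * (g - 1) := by
        field_simp
        ring
      rw [hexp]
      rcases Nat.eq_zero_or_pos g with h0 | h0
      · rw [h0] at hle' ⊢
        push_cast at hle' ⊢
        nlinarith
      · have h0' : (1 : ℝ) ≤ g := by exact_mod_cast h0
        have h4 : (2 * (g : ℝ) - 2) * S ≤ (2 * (g : ℝ) - 2) * (T + g * g) :=
          mul_le_mul_of_nonneg_left h1' (by linarith)
        have h5 : (2 * (g : ℝ) - 2) * (T + g * g) =
            ((g : ℝ) - 1) * (n * (n - 1)) + 2 * (g : ℝ) ^ 2 * (g - 1) := by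
          rw [← h3']; ring
        nlinarith
    exact le_of_mul_le_mul_left hkey hnR
  · push Not at hne
    have hemp : {P : Place k K | IsStrongFixedPt τ P} = ∅ := by
      ext P; simp [hne P]
    rw [hemp]
    refine ⟨Set.finite_empty, ?_⟩
    rw [Set.ncard_empty, Nat.cast_zero]
    rcases Nat.eq_zero_or_pos (genus k K) with h0 | h0
    · rw [h0]
      push_cast
      have : (0 : ℝ) ≤ (Module.finrank τ.fieldRange K : ℝ) / n := by positivity
      simp
      positivity
    · have h0' : (1 : ℝ) ≤ genus k K := by exact_mod_cast h0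
      have h1 : (0 : ℝ) ≤ (genus k K : ℝ) - 1 := by linarith
      positivity

end K664
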